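import Mathlib
import Cfsg.Agent.Lib.Recog.ThompsonWielandtBound
import Cfsg.Agent.Lib.Base.MinimalNormal

/-!
# Permutation groups containing the alternating group: generic facts
-/

set_option autoImplicit false
set_option linter.style.haveILetI false
set_option linter.unusedSectionVars false

open scoped commutatorElement

namespace CfsgLib.Recog.AltSub

open Cfsg Equiv.Perm Subgroup CfsgLib.Base

variable {α : Type*} [Fintype α] [DecidableEq α]

theorem alt_not_isMulCommutative (h5 : 5 ≤ Nat.card α) :
    ¬ IsMulCommutative ↥(alternatingGroup α) := fun h => by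
  have := alternatingGroup.isMulCommutative_iff_card_le_three.mp h
  omega

theorem centralizer_alt (h5 : 5 ≤ Nat.card α) :
    centralizer (alternatingGroup α : Set (Equiv.Perm α)) = ⊥ := by
  by_contra hne
  haveI : (centralizer (alternatingGroup α : Set (Equiv.Perm α))).Normal := inferInstance
  have h := alternatingGroup_le_of_normal h5 ((nontrivial_iff_ne_bot _).mpr hne)
  exact alt_not_isMulCommutative h5 (le_centralizer_iff_isMulCommutative.mp h)

theorem eq_bot_or_alt_le (h5 : 5 ≤ Nat.card α) {J X : Subgroup (Equiv.Perm α)}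
    (hJ : alternatingGroup α ≤ J) (hn : J ≤ normalizer (X : Set (Equiv.Perm α))) :
    X = ⊥ ∨ alternatingGroup α ≤ X := by
  haveI : (X.subgroupOf (alternatingGroup α)).Normal :=
    normal_subgroupOf_of_le_normalizer (hJ.trans hn)
  rcases alternatingGroup.normal_subgroup_eq_bot_or_eq_top h5
    (N := X.subgroupOf (alternatingGroup α)) with h | h
  · left
    rw [subgroupOf_eq_bot, disjoint_iff] at h
    have hXA : X ≤ normalizer (alternatingGroup α : Set (Equiv.Perm α)) := le_normalizer_of_normal
    rw [← le_bot_iff, ← centralizer_alt h5]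
    exact TW.le_centralizer_of_inf_eq_bot hXA (hJ.trans hn) h
  · exact Or.inr (subgroupOf_eq_top.mp h)

theorem alt_commutator_self (h5 : 5 ≤ Nat.card α) :
    ⁅alternatingGroup α, alternatingGroup α⁆ = alternatingGroup α := by
  refine le_antisymm (commutator_le_right _ _) ?_
  refine (eq_bot_or_alt_le h5 le_rfl ?_).resolve_left fun h => ?_
  · exact le_normalizer_of_normal
  · exact alt_not_isMulCommutative h5 (le_centralizer_iff_isMulCommutative.mp
      (commutator_eq_bot_iff_le_centralizer.mp h))

theorem not_isSolvable_of_alt_le (h5 : 5 ≤ Nat.card α) {X : Subgroup (Equiv.Perm α)}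
    (h : alternatingGroup α ≤ X) : ¬ Group.IsSolvable ↥X := fun hs => by
  haveI := hs
  haveI : Group.IsSolvable ↥(alternatingGroup α) :=
    Group.isSolvable_of_isSolvable_injective (inclusion_injective h)
  haveI := alternatingGroup.isSimpleGroup h5
  exact alt_not_isMulCommutative h5
    ⟨⟨fun x y => IsSimpleGroup.comm_iff_isSolvable.mpr inferInstance x y⟩⟩

theorem le_alt_of_commutator_self {X : Subgroup (Equiv.Perm α)} (h : ⁅X, X⁆ = X) :
    X ≤ alternatingGroup α := by
  rw [← h, commutator_le]
  intro x _ y _
  rw [mem_alternatingGroup, map_commutatorElement, commutatorElement_eq_one_iff_mul_comm]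
  exact mul_comm _ _

theorem two_mul_card_alt (h2 : 2 ≤ Nat.card α) :
    2 * Nat.card ↥(alternatingGroup α) = (Nat.card α).factorial := by
  haveI : Nontrivial α := Finite.one_lt_card_iff_nontrivial.mp h2
  rw [two_mul_nat_card_alternatingGroup, Nat.card_perm]

theorem alt_two_transitive (h4 : 4 ≤ Nat.card α) {x y x' y' : α} (hxy : x ≠ y) (hxy' : x' ≠ y') :
    ∃ σ ∈ alternatingGroup α, σ x = x' ∧ σ y = y' := by
  haveI : MulAction.IsMultiplyPretransitive (alternatingGroup α) α 2 := by
    haveI := alternatingGroup.isMultiplyPretransitive α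
    exact MulAction.isMultiplyPretransitive_of_le (n := Nat.card α - 2) (by omega) (Nat.sub_le _ _)
  obtain ⟨σ, h1, h2⟩ := MulAction.is_two_pretransitive_iff.mp this hxy hxy'
  exact ⟨σ, σ.2, h1, h2⟩

/-! ## Homomorphisms onto groups containing the alternating group -/

variable {J : Type*} [Group J]

theorem card_map_le_relIndex [Finite J] {P : Type*} [Group P] (f : J →* P) {X Y : Subgroup J}
    (hYX : Y ≤ X) (hY : Y ≤ f.ker) : Nat.card (X.map f) ≤ Y.relIndex X := by
  have h1 : Nat.card (X.map f) = f.ker.relIndex X := (Subgroup.relIndex_ker X f).symm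
  rw [h1]
  exact Nat.le_of_dvd (Nat.pos_of_ne_zero Subgroup.index_ne_zero_of_finite)
    (Subgroup.relIndex_dvd_of_le_left X hY)

/-- A normal subgroup of small index in `X` keeps the alternating group in its image. -/
theorem alt_le_map_of_small [Finite J] (h5 : 5 ≤ Nat.card α) (f : J →* Equiv.Perm α)
    {X Y : Subgroup J} [hYn : Y.Normal] (hf : alternatingGroup α ≤ f.range)
    (hX : alternatingGroup α ≤ X.map f) (hYX : Y ≤ X)
    (hsmall : Y.relIndex X < Nat.card ↥(alternatingGroup α)) :
    alternatingGroup α ≤ Y.map f := by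
  refine (eq_bot_or_alt_le h5 hf ?_).resolve_left fun h => ?_
  · rw [MonoidHom.range_eq_map]
    refine le_trans ?_ (le_normalizer_map f)
    exact map_mono (le_normalizer_of_normal)
  · have h1 := card_map_le_relIndex f hYX ((Subgroup.map_eq_bot_iff Y).mp h)
    have h2 := Subgroup.card_le_of_le hX
    omega

/-- A group embedded in a product of small groups has no image containing the alternating group. -/
theorem false_of_small [Finite J] (h5 : 5 ≤ Nat.card α) (f : J →* Equiv.Perm α)
    (hf : alternatingGroup α ≤ f.range) {ι : Type*} [Finite ι] {Q : Type*} [Group Q] [Finite Q]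
    (π : J →* (ι → Q)) (hπ : Function.Injective π)
    (hQ : Nat.card Q < Nat.card ↥(alternatingGroup α)) : False := by
  classical
  haveI : Fintype ι := Fintype.ofFinite ι
  let K : Finset ι → Subgroup J := fun S => ⨅ i ∈ S, ((Pi.evalMonoidHom (fun _ => Q) i).comp π).ker
  have hK : ∀ S, alternatingGroup α ≤ (K S).map f := by
    intro S
    induction S using Finset.induction with
    | empty => simpa [K, ← MonoidHom.range_eq_map] using hf
    | insert i S hi ih =>
      set g := (Pi.evalMonoidHom (fun _ => Q) i).comp π with hg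
      have hins : K (insert i S) = g.ker ⊓ K S := Finset.iInf_insert i S _
      haveI : ∀ S, (K S).Normal := fun S => by
        refine normal_iInf_normal fun j => normal_iInf_normal fun _ => ?_
        exact inferInstance
      refine alt_le_map_of_small h5 f hf ih (hins ▸ inf_le_right) ?_
      rw [hins, Subgroup.inf_relIndex_right, Subgroup.relIndex_ker]
      exact lt_of_le_of_lt (Subgroup.card_le_card_group _) hQ
  have h1 := hK Finset.univ
  have h2 : K Finset.univ = ⊥ := by
    refine (Subgroup.eq_bot_iff_forall _).mpr fun x hx => hπ ?_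
    rw [map_one]
    funext i
    simp only [K, Subgroup.mem_iInf, MonoidHom.mem_ker] at hx
    exact hx i (Finset.mem_univ i)
  rw [h2, Subgroup.map_bot, le_bot_iff] at h1
  haveI := alternatingGroup.nontrivial_of_three_le_card (α := α) (by omega)
  exact (nontrivial_iff_ne_bot _).mp this h1

/-! ## Perfect groups and normal subgroups -/

theorem commutator_sup_sup_le {T : Type*} [Group T] (W A B : Subgroup T) [W.Normal] [A.Normal]
    [B.Normal] : ⁅W ⊔ A, W ⊔ B⁆ ≤ W ⊔ A ⊓ B := by
  have h : ∀ C : Subgroup T, W ⊔ C = (C.map (QuotientGroup.mk' W)).comap (QuotientGroup.mk' W) :=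
    fun C => by rw [comap_map_mk', sup_comm]
  rw [h (A ⊓ B), ← map_le_iff_le_comap, map_commutator, Subgroup.map_sup, Subgroup.map_sup,
    QuotientGroup.map_mk'_self, bot_sup_eq, bot_sup_eq, ← map_commutator]
  exact map_mono (le_inf (commutator_le_left A B) (commutator_le_right A B))

theorem sup_iInf_eq_top {T : Type*} [Group T] (hT : ⁅(⊤ : Subgroup T), (⊤ : Subgroup T)⁆ = ⊤)
    (W : Subgroup T) [W.Normal] {ι : Type*} (N : ι → Subgroup T) [∀ i, (N i).Normal]
    (S : Finset ι) (h : ∀ i ∈ S, W ⊔ N i = ⊤) : W ⊔ (⨅ i ∈ S, N i) = ⊤ := by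
  classical
  induction S using Finset.induction with
  | empty => simp
  | insert i S hi ih =>
    rw [Finset.iInf_insert, eq_top_iff, ← hT]
    haveI : (⨅ j ∈ S, N j).Normal :=
      normal_iInf_normal fun j => normal_iInf_normal fun _ => inferInstance
    have h1 := commutator_sup_sup_le W (N i) (⨅ j ∈ S, N j)
    rwa [h i (Finset.mem_insert_self i S), ih fun j hj => h j (Finset.mem_insert_of_mem hj)] at h1

/-- Inside a perfect subgroup `E`, a subgroup supplementing each of several subgroups supplements
their intersection. -/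
theorem sup_inf_iInf_eq {G : Type*} [Group G] [Finite G] {E W : Subgroup G} (hE : ⁅E, E⁆ = E)
    (hWE : W ≤ E) (hW : E ≤ normalizer (W : Set G)) {ι : Type*} (N : ι → Subgroup G) (S : Set ι)
    [Finite ι] (hN : ∀ i, N i ≤ E) (hNn : ∀ i, E ≤ normalizer (N i : Set G))
    (h : ∀ i ∈ S, W ⊔ N i = E) {x : G} (hx : x ∈ E) :
    ∃ w ∈ W, ∃ c ∈ E, (∀ i ∈ S, c ∈ N i) ∧ x = w * c := by
  classical
  haveI : Fintype ι := Fintype.ofFinite ι
  haveI : (W.subgroupOf E).Normal := normal_subgroupOf_of_le_normalizer hW
  haveI : ∀ i, ((N i).subgroupOf E).Normal := fun i => normal_subgroupOf_of_le_normalizer (hNn i)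
  have hT : ⁅(⊤ : Subgroup E), (⊤ : Subgroup E)⁆ = ⊤ := by
    apply map_injective E.subtype_injective
    rw [map_commutator, ← MonoidHom.range_eq_map, range_subtype, hE]
  have htop := sup_iInf_eq_top hT (W.subgroupOf E) (fun i => (N i).subgroupOf E)
    (Finset.univ.filter (· ∈ S)) fun i hi => by
      rw [← subgroupOf_sup hWE (hN i), h i (Finset.mem_filter.mp hi).2, subgroupOf_self]
  haveI : (⨅ i ∈ Finset.univ.filter (· ∈ S), (N i).subgroupOf E).Normal :=
    normal_iInf_normal fun j => normal_iInf_normal fun _ => inferInstance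
  have hx' : (⟨x, hx⟩ : E) ∈ W.subgroupOf E ⊔ ⨅ i ∈ Finset.univ.filter (· ∈ S), (N i).subgroupOf E :=
    htop ▸ mem_top _
  obtain ⟨w, hw, c, hc, he⟩ := Subgroup.mem_sup_of_normal_left.mp hx'
  refine ⟨w, hw, c, c.2, fun i hi => ?_, (congrArg Subtype.val he).symm⟩
  simp only [Subgroup.mem_iInf] at hc
  exact mem_subgroupOf.mp (hc i (Finset.mem_filter.mpr ⟨Finset.mem_univ i, hi⟩))

/-! ## Perfect residual and solvable normal subgroups -/

/-- Every subgroup of a finite group has a perfect residual. -/
theorem exists_perfectResidual {G : Type*} [Group G] [Finite G] (K : Subgroup G) :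
    ∃ E : Subgroup G, E ≤ K ∧ ⁅E, E⁆ = E ∧
      normalizer (K : Set G) ≤ normalizer (E : Set G) ∧
      (∀ X : Subgroup G, X ≤ K → ⁅X, X⁆ = X → X ≤ E) ∧
      (∀ X : Subgroup G, X ≤ K → X ⊓ E = ⊥ → Group.IsSolvable ↥X) := by
  obtain ⟨n, hn⟩ : ∃ n, derivedSeries ↥K (n + 1) = derivedSeries ↥K n := by
    by_contra hc
    push Not at hc
    have h : ∀ n, Nat.card (derivedSeries ↥K n) + n ≤ Nat.card ↥K := by
      intro n
      induction n with
      | zero => simp
      | succ n ih =>
        have hle : derivedSeries ↥K (n + 1) ≤ derivedSeries ↥K n :=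
          derivedSeries_antitone ↥K (Nat.le_succ n)
        have hlt : Nat.card (derivedSeries ↥K (n + 1)) < Nat.card (derivedSeries ↥K n) :=
          lt_of_le_of_ne (card_le_of_le hle) fun he => hc n (eq_of_le_of_card_ge hle he.ge)
        omega
    have := h (Nat.card ↥K + 1)
    omega
  refine ⟨(derivedSeries ↥K n).map K.subtype, map_subtype_le _, ?_, ?_, ?_, ?_⟩
  · rw [← map_commutator, ← derivedSeries_succ, hn]
  · haveI : (derivedSeries ↥K n).Characteristic := derivedSeries_characteristic ↥K n
    exact normalizer_le_normalizer_map_subtype K _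
  · intro X hXK hX
    have h : ∀ m, X ≤ (derivedSeries ↥K m).map K.subtype := by
      intro m
      induction m with
      | zero => rwa [derivedSeries_zero, ← MonoidHom.range_eq_map, range_subtype]
      | succ m ih =>
        rw [derivedSeries_succ, map_commutator]
        exact hX.ge.trans (commutator_mono ih ih)
    exact h n
  · intro X hXK hXE
    refine ⟨⟨n, (Subgroup.map_eq_bot_iff_of_injective _ X.subtype_injective).mp ?_⟩⟩
    rw [← le_bot_iff, ← hXE]
    refine le_inf (map_subtype_le _) ?_
    have h := Subgroup.map_mono (f := K.subtype)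
      (map_derivedSeries_le_derivedSeries (inclusion hXK) n)
    rwa [Subgroup.map_map, subtype_comp_inclusion] at h

theorem eq_bot_of_isSolvable {G : Type*} [Group G] [Finite G] {I X : Subgroup G}
    (hI : fittingSubgroup ↥I = ⊥) (hXI : X ≤ I) (hn : I ≤ normalizer (X : Set G))
    (hs : Group.IsSolvable ↥X) : X = ⊥ := by
  by_contra hne
  haveI : (X.subgroupOf I).Normal := normal_subgroupOf_of_le_normalizer hn
  haveI := hs
  haveI : Group.IsSolvable ↥(X.subgroupOf I) :=
    Group.isSolvable_of_isSolvable_injective (f := (subgroupOfEquivOfLe hXI).toMonoidHom)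
      (subgroupOfEquivOfLe hXI).injective
  haveI : Nontrivial ↥(X.subgroupOf I) := by
    rw [nontrivial_iff_ne_bot, ne_eq, subgroupOf_eq_bot, disjoint_iff, inf_eq_left.mpr hXI]
    exact hne
  have h := map_fittingSubgroup_le_of_isSubnormal
    (Normal.isSubnormal (inferInstance : (X.subgroupOf I).Normal))
  rw [hI, le_bot_iff, Subgroup.map_eq_bot_iff_of_injective _ (X.subgroupOf I).subtype_injective] at h
  exact fittingSubgroup_ne_bot h

end CfsgLib.Recog.AltSub
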