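import Cfsg.Agent.Lib.Recog.AltSubconstituent.Paired

/-!
# The two suborbit kernels meet trivially
-/

set_option autoImplicit false
set_option linter.style.haveILetI false
set_option linter.unusedSectionVars false
set_option maxHeartbeats 800000

open scoped commutatorElement Pointwise
open MulAction CfsgLib.Recog.TW CfsgLib.Base Cfsg

namespace CfsgLib.Recog.AltSub

variable {G Ω : Type*} [Group G] [MulAction G Ω] [Finite G] [Finite Ω]

/-- The image of a perfect subgroup that is normalised by the two-point stabiliser and not inside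
the kernel is the alternating group, and subgroups it normalises map trivially or onto it. -/
theorem sup_inf_of_perfect (a b : Ω) (d : ℕ) (hd : Nat.card (orbit (stabilizer G a) b) = d)
    (h6 : 6 ≤ d)
    (halt : (toPermHom (stabilizer G a) (orbit (stabilizer G a) b)).range.index ≤ 2)
    {E : Subgroup G} (hEI : E ≤ stabilizer G a ⊓ stabilizer G b) (hEE : ⁅E, E⁆ = E)
    (hEn : stabilizer G a ⊓ stabilizer G b ≤ Subgroup.normalizer (E : Set G))
    (hEK : ¬ E ≤ orbitKer G a b) :
    (∀ x y : Ω, x ∈ (orbit (stabilizer G a) b \ {b} : Set Ω) →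
      y ∈ (orbit (stabilizer G a) b \ {b} : Set Ω) → ∃ g ∈ E, g • x = y) ∧
    (∀ W : Subgroup G, W ≤ E → E ≤ Subgroup.normalizer (W : Set G) →
      W ≤ orbitKer G a b ∨ W ⊔ E ⊓ orbitKer G a b = E) := by
  classical
  set I := stabilizer G a ⊓ stabilizer G b with hI
  set ψ := restHom G a b with hψ
  haveI : Fintype ↥(orbit (stabilizer G a) b \ {b} : Set Ω) := Fintype.ofFinite _
  have h5 : 5 ≤ Nat.card ↥(orbit (stabilizer G a) b \ {b} : Set Ω) := by
    rw [card_rest_set a b d hd]; omega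
  have hrange := Equiv.Perm.alternatingGroup_le_of_index_le_two
    ((index_restHom a b d hd).trans_le halt)
  set E' := (E.subgroupOf I).map ψ with hE'
  have hperf : ⁅E', E'⁆ = E' := by
    rw [hE', ← Subgroup.map_commutator]
    congr 1
    apply Subgroup.map_injective I.subtype_injective
    rw [Subgroup.map_commutator, Subgroup.map_subgroupOf_eq_of_le hEI, hEE]
  have hle : E' ≤ alternatingGroup _ := le_alt_of_commutator_self hperf
  have hge : alternatingGroup _ ≤ E' := by
    refine (eq_bot_or_alt_le h5 hrange ?_).resolve_left fun h0 => hEK ?_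
    · rw [MonoidHom.range_eq_map]
      refine le_trans (Subgroup.map_mono fun x _ => ?_) (Subgroup.le_normalizer_map ψ)
      exact CfsgLib.Components.subgroupOf_le_normalizer I hEn (Subgroup.mem_subgroupOf.mpr x.2)
    · rw [hE', Subgroup.map_eq_bot_iff, hψ, ker_restHom] at h0
      exact fun x hx => Subgroup.mem_subgroupOf.mp
        (h0 (show (⟨x, hEI hx⟩ : I) ∈ E.subgroupOf I from hx))
  refine ⟨fun x y hx hy => ?_, fun W hW hWn => ?_⟩
  · haveI := alternatingGroup.isPretransitive_of_three_le_card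
      (α := ↥(orbit (stabilizer G a) b \ {b} : Set Ω)) (by omega)
    obtain ⟨σ, hσ⟩ := MulAction.exists_smul_eq
      (alternatingGroup ↥(orbit (stabilizer G a) b \ {b} : Set Ω)) (⟨x, hx⟩ : ↥(_ : Set Ω)) ⟨y, hy⟩
    obtain ⟨g, hg, hgσ⟩ := hge σ.2
    refine ⟨(g : G), Subgroup.mem_subgroupOf.mp hg, ?_⟩
    have h1 := congrArg Subtype.val hσ
    rw [show σ • (⟨x, hx⟩ : ↥(orbit (stabilizer G a) b \ {b} : Set Ω)) = (σ : Equiv.Perm _) ⟨x, hx⟩
      from rfl, ← hgσ, hψ, restHom_apply] at h1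
    exact h1
  · set W' := (W.subgroupOf I).map ψ with hW'
    rcases eq_bot_or_alt_le h5 (X := W') le_rfl (hge.trans (by
        rw [hE']
        refine le_trans (Subgroup.map_mono ?_) (Subgroup.le_normalizer_map ψ)
        exact CfsgLib.Components.subgroupOf_le_normalizer I hWn)) with h0 | h0
    · left
      rw [hW', Subgroup.map_eq_bot_iff, hψ, ker_restHom] at h0
      exact fun x hx => Subgroup.mem_subgroupOf.mp
        (h0 (show (⟨x, hEI (hW hx)⟩ : I) ∈ W.subgroupOf I from hx))
    · right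
      refine le_antisymm (sup_le hW inf_le_left) fun x hx => ?_
      obtain ⟨w, hw, hwe⟩ := h0 (hle (Subgroup.mem_map_of_mem ψ
        (show (⟨x, hEI hx⟩ : I) ∈ E.subgroupOf I from hx)))
      have hker : (w⁻¹ * ⟨x, hEI hx⟩ : I) ∈ ψ.ker := by
        rw [MonoidHom.mem_ker, map_mul, map_inv, hwe, inv_mul_cancel]
      rw [hψ, ker_restHom, Subgroup.mem_subgroupOf] at hker
      have hwW : (w : G) ∈ W := Subgroup.mem_subgroupOf.mp hw
      have hmem : (w : G)⁻¹ * x ∈ E ⊓ orbitKer G a b :=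
        Subgroup.mem_inf.mpr ⟨mul_mem (inv_mem (hW hwW)) hx, hker⟩
      simpa using Subgroup.mul_mem_sup hwW hmem

theorem conj_mem_of_le_normalizer {X : Subgroup G} {S : Subgroup G}
    (h : S ≤ Subgroup.normalizer (X : Set G)) {g : G} (hg : g ∈ S) :
    X.map (MulAut.conj g).toMonoidHom = X :=
  map_conj_eq_self_iff.mpr (h hg)

/-- The kernels on the two paired suborbits meet trivially. -/
theorem inf_orbitKer_eq_bot [FaithfulSMul G Ω] [IsPreprimitive G Ω] (a b : Ω) (d : ℕ)
    (hd : Nat.card (orbit (stabilizer G a) b) = d) (h6 : 6 ≤ d)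
    (halt : (toPermHom (stabilizer G a) (orbit (stabilizer G a) b)).range.index ≤ 2)
    (halt' : (toPermHom (stabilizer G b) (orbit (stabilizer G b) a)).range.index ≤ 2)
    (hI : fittingSubgroup ↥(stabilizer G a ⊓ stabilizer G b) = ⊥)
    (hA2 : cA2 (stabilizer G a) (stabilizer G b) = ⊥)
    (hKL : ¬ orbitKer G a b ≤ orbitKer G b a) (hLK : ¬ orbitKer G b a ≤ orbitKer G a b) :
    orbitKer G a b ⊓ orbitKer G b a = ⊥ := by
  classical
  have h := hyp_stabilizer (G := G) (a := a) (b := b) (by omega)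
  set M := stabilizer G a with hM
  set N := stabilizer G b with hN
  set K := orbitKer G a b with hK
  set L := orbitKer G b a with hL
  have hKI : K ≤ M ⊓ N := orbitKer_le_inf a b
  have hIK : M ⊓ N ≤ Subgroup.normalizer (K : Set G) := inf_le_left.trans (le_normalizer_orbitKer a b)
  have hLI : L ≤ M ⊓ N := inf_comm N M ▸ orbitKer_le_inf b a
  have hIL : M ⊓ N ≤ Subgroup.normalizer (L : Set G) := inf_le_right.trans (le_normalizer_orbitKer b a)
  have hID : M ⊓ N ≤ Subgroup.normalizer ((K ⊓ L : Subgroup G) : Set G) :=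
    (le_inf hIK hIL).trans Subgroup.inf_normalizer_le_normalizer_inf
  have hb : b ∈ (orbit M b : Set Ω) := mem_orbit_self b
  obtain ⟨E, hEK, hEE, hEn, hEmax, hEsolv⟩ := exists_perfectResidual K
  have hEM : E ≤ M := hEK.trans inf_le_left
  have hEI : E ≤ M ⊓ N := hEK.trans hKI
  have hME : M ≤ Subgroup.normalizer (E : Set G) := (le_normalizer_orbitKer a b).trans hEn
  let F : ↥(orbit M b) → Subgroup G := fun c => E ⊓ orbitKer G (c : Ω) a
  let act : ↥M → ↥(orbit M b) → (orbit M b : Set Ω) := fun m c =>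
    ⟨(m : G) • (c : Ω), smul_mem_orbit_stabilizer m.2 c.2⟩
  have hconj : ∀ (m : ↥M) (c : (orbit M b : Set Ω)),
      (F c).map (MulAut.conj (m : G)).toMonoidHom = F (act m c) := by
    intro m c
    show (E ⊓ orbitKer G (c : Ω) a).map _ = E ⊓ orbitKer G ((m : G) • (c : Ω)) a
    rw [Subgroup.map_inf_eq _ _ _ (MulEquiv.injective _), conj_mem_of_le_normalizer hME m.2,
      map_conj_orbitKer, mem_stabilizer_iff.mp m.2]
  have hcE : ∀ (c : (orbit M b : Set Ω)), E ≤ Subgroup.normalizer (F c : Set G) := by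
    intro c
    refine (le_inf Subgroup.le_normalizer ?_).trans Subgroup.inf_normalizer_le_normalizer_inf
    refine le_trans (fun x hx => ?_) (le_normalizer_orbitKer (G := G) (c : Ω) a)
    exact mem_stabilizer_iff.mpr ((mem_fixingSubgroup_iff G).mp (hEK hx).2 c c.2)
  have hinter : ∀ x ∈ E, (∀ c, x ∈ F c) → x = 1 := by
    intro x hx hall
    let X : Subgroup G := E ⊓ ⨅ c : (orbit M b : Set Ω), orbitKer G (c : Ω) a
    have hXn : M ≤ Subgroup.normalizer (X : Set G) := by
      refine CfsgLib.Components.le_normalizer_of_conj_mem fun m hm y hy => ?_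
      refine Subgroup.mem_inf.mpr ⟨(Subgroup.mem_normalizer_iff.mp (hME hm) y).mp hy.1,
        Subgroup.mem_iInf.mpr fun c => ?_⟩
      set c' := act ⟨m, hm⟩⁻¹ c with hc'
      have h1 : y ∈ F c' := ⟨hy.1, Subgroup.mem_iInf.mp hy.2 c'⟩
      have h2 := Subgroup.mem_map_of_mem (MulAut.conj m).toMonoidHom h1
      rw [show (MulAut.conj m).toMonoidHom = (MulAut.conj ((⟨m, hm⟩ : M) : G)).toMonoidHom from rfl,
        hconj] at h2
      have h3 : act ⟨m, hm⟩ c' = c := Subtype.ext (smul_inv_smul m (c : Ω))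
      rw [h3] at h2
      exact h2.2
    have hXA : X ≤ cA2 M N := by
      refine le_nCore (inf_le_left.trans hEM) (le_inf ?_ ?_) hXn
      · exact (inf_le_left.trans hEK).trans (orbitKer_le_cA a b)
      · exact (inf_le_right.trans (iInf_le _ (⟨b, hb⟩ : (orbit M b : Set Ω)))).trans
          (orbitKer_le_cA b a)
    rw [hA2] at hXA
    exact Subgroup.mem_bot.mp (hXA ⟨hx, Subgroup.mem_iInf.mpr fun c => (hall c).2⟩)
  by_cases hinj : Function.Injective F
  swap
  · -- all the kernels coincide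
    obtain ⟨c₁, c₂, heq, hne⟩ := Function.not_injective_iff.mp hinj
    have hall : ∀ c : (orbit M b : Set Ω), F c = F ⟨b, hb⟩ := by
      intro c
      by_cases hc : c = ⟨b, hb⟩
      · rw [hc]
      haveI : Fintype (orbit M b) := Fintype.ofFinite _
      obtain ⟨σ, hσ, h1, h2⟩ := alt_two_transitive (α := (orbit M b : Set Ω)) (by omega) hne hc
      obtain ⟨m, hm⟩ := Equiv.Perm.alternatingGroup_le_of_index_le_two halt hσ
      have e1 : act m c₁ = c := by rw [← h1, ← hm]; rfl
      have e2 : act m c₂ = ⟨b, hb⟩ := by rw [← h2, ← hm]; rfl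
      rw [← e1, ← e2, ← hconj, ← hconj, heq]
    have h0 : E ⊓ L = ⊥ := (Subgroup.eq_bot_iff_forall _).mpr fun x hx =>
      hinter x hx.1 fun c => by rw [hall c]; exact hx
    refine eq_bot_of_isSolvable hI (inf_le_left.trans hKI) hID (hEsolv _ inf_le_left ?_)
    rw [eq_bot_iff, ← h0]
    exact le_inf inf_le_right (inf_le_left.trans inf_le_right)
  -- the kernels are pairwise distinct; derive a contradiction
  exfalso
  have hEbot : E ≠ ⊥ := fun h0 => hKL (le_of_eq_of_le (eq_bot_of_isSolvable hI hKI hIK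
    (hEsolv _ le_rfl (by rw [h0, inf_bot_eq]))) bot_le)
  have hEL : ¬ E ≤ L := fun hle => hEbot ((Subgroup.eq_bot_iff_forall _).mpr fun x hx => by
    refine hinter x hx fun c => ?_
    obtain ⟨m, hm⟩ := c.2
    have e : act m ⟨b, hb⟩ = c := Subtype.ext hm
    have hF : F ⟨b, hb⟩ = E := inf_eq_left.mpr hle
    rw [← e, ← hconj, hF, conj_mem_of_le_normalizer hME m.2]
    exact hx)
  have htrans : ∀ c, ∃ m : ↥M, act m ⟨b, hb⟩ = c := fun c => by
    obtain ⟨m, hm⟩ := c.2
    exact ⟨m, Subtype.ext hm⟩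
  have hsimp : ∀ (c : (orbit M b : Set Ω)) (W : Subgroup G), W ≤ E →
      E ≤ Subgroup.normalizer (W : Set G) → W ≤ F c ∨ W ⊔ F c = E := by
    have hd' : Nat.card (orbit (stabilizer G b) a) = d := by
      rw [card_orbit_stabilizer_symm b a, hd]
    obtain ⟨-, hb'⟩ := sup_inf_of_perfect b a d hd' h6 halt' (E := E)
      (inf_comm M N ▸ hEI) hEE ((inf_comm M N ▸ (inf_le_left : M ⊓ N ≤ M)).trans hME) hEL
    intro c W hW hWn
    obtain ⟨m, rfl⟩ := htrans c
    set W' := W.map (MulAut.conj ((m : G)⁻¹)).toMonoidHom with hW'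
    have hinvE : E.map (MulAut.conj ((m : G)⁻¹)).toMonoidHom = E :=
      conj_mem_of_le_normalizer hME (inv_mem m.2)
    have hback : W'.map (MulAut.conj (m : G)).toMonoidHom = W := by
      rw [hW', Subgroup.map_map]
      ext x
      simp [mul_assoc]
    have hW'E : W' ≤ E := hinvE ▸ Subgroup.map_mono hW
    have hW'n : E ≤ Subgroup.normalizer (W' : Set G) := by
      have h1 := (Subgroup.map_mono (f := (MulAut.conj ((m : G)⁻¹)).toMonoidHom) hWn).trans
        (Subgroup.le_normalizer_map _)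
      rwa [hinvE] at h1
    rcases hb' W' hW'E hW'n with h0 | h0
    · left
      rw [← hback, ← hconj]
      exact Subgroup.map_mono (le_inf hW'E h0)
    · right
      rw [← hback, ← hconj, ← Subgroup.map_sup]
      show (W' ⊔ E ⊓ orbitKer G b a).map _ = E
      rw [h0, conj_mem_of_le_normalizer hME m.2]
  have hFE : ∀ c, F c ≤ E := fun c => inf_le_left
  have hFne : ∀ c, F c ≠ E := by
    intro c hc
    obtain ⟨m, rfl⟩ := htrans c
    rw [← hconj] at hc
    have h1 : F ⟨b, hb⟩ = E := Subgroup.map_injective (MulEquiv.injective (MulAut.conj (m : G)))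
      (hc.trans (conj_mem_of_le_normalizer hME m.2).symm)
    exact hEL (inf_eq_left.mp h1)
  have hFcard : ∀ c, Nat.card (F c) = Nat.card (F ⟨b, hb⟩) := by
    intro c
    obtain ⟨m, rfl⟩ := htrans c
    rw [← hconj, card_map_conj]
  have hpair : ∀ c c', c ≠ c' → F c ⊔ F c' = E := by
    intro c c' hne
    refine (hsimp c' (F c) (hFE c) (hcE c)).resolve_left fun hle => hne ?_
    exact hinj (Subgroup.eq_of_le_of_card_ge hle (by rw [hFcard c, hFcard c']))
  have hcent : M ⊓ Subgroup.centralizer (E : Set G) = ⊥ := by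
    have hle : M ⊓ Subgroup.centralizer (E : Set G) ≤ K := by
      rintro x ⟨hxM, hxC⟩
      refine ⟨hxM, (mem_fixingSubgroup_iff G).mpr fun c hc => ?_⟩
      have h1 : F (act ⟨x, hxM⟩ ⟨c, hc⟩) = F ⟨c, hc⟩ := by
        rw [← hconj]
        exact map_conj_eq_self_iff.mpr
          (Subgroup.centralizer_le_normalizer _ (Subgroup.centralizer_le (hFE _) hxC))
      exact congrArg Subtype.val (hinj h1)
    refine eq_bot_of_isSolvable hI (hle.trans hKI) ?_ (hEsolv _ hle ?_)
    · exact (inf_le_left.trans ((le_inf Subgroup.le_normalizer (hME.trans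
        (CfsgLib.PLocal.normalizer_le_centralizer_normalizer _))).trans
        Subgroup.inf_normalizer_le_normalizer_inf))
    · refine eq_bot_of_isSolvable hI (inf_le_right.trans hEI) ?_ ?_
      · refine (le_inf ?_ (inf_le_left.trans hME)).trans Subgroup.inf_normalizer_le_normalizer_inf
        exact inf_le_left.trans ((le_inf Subgroup.le_normalizer (hME.trans
          (CfsgLib.PLocal.normalizer_le_centralizer_normalizer _))).trans
          Subgroup.inf_normalizer_le_normalizer_inf)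
      · haveI : IsMulCommutative ↥(M ⊓ Subgroup.centralizer (E : Set G) ⊓ E) :=
          ⟨⟨fun x y => Subtype.ext (Subgroup.mem_centralizer_iff.mp y.2.1.2 x x.2.2)⟩⟩
        exact Group.isSolvable_of_comm fun x y => IsMulCommutative.is_comm.comm x y
  have hsupall : ∀ (W : Subgroup G), W ≤ E → E ≤ Subgroup.normalizer (W : Set G) →
      ∀ S : Set (orbit M b : Set Ω), (∀ c ∈ S, ¬ W ≤ F c) →
      ∀ x ∈ E, ∃ w ∈ W, ∃ k ∈ E, (∀ c ∈ S, k ∈ F c) ∧ x = w * k := fun W hW hWn S hS x hx =>
    sup_inf_iInf_eq hEE hW hWn F S hFE hcE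
      (fun c hc => (hsimp c W hW hWn).resolve_left (hS c hc)) hx
  -- `E` is the least nontrivial normal subgroup of `M`
  have hmin : ∀ V : Subgroup G, V ≤ M → M ≤ Subgroup.normalizer (V : Set G) → V ≠ ⊥ → E ≤ V := by
    intro V hVM hVn hV
    have hWn : M ≤ Subgroup.normalizer ((V ⊓ E : Subgroup G) : Set G) :=
      (le_inf hVn hME).trans Subgroup.inf_normalizer_le_normalizer_inf
    have hW0 : V ⊓ E ≠ ⊥ := by
      intro h0
      refine hV (le_bot_iff.mp (hcent ▸ le_inf hVM ?_))
      exact le_centralizer_of_inf_eq_bot (hVM.trans hME) (hEM.trans hVn) h0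
    have hnot : ∀ c, ¬ V ⊓ E ≤ F c := by
      intro c hle
      refine hW0 ((Subgroup.eq_bot_iff_forall _).mpr fun x hx => hinter x hx.2 fun c' => ?_)
      obtain ⟨m, hm⟩ := htrans c
      obtain ⟨m', hm'⟩ := htrans c'
      have h1 := Subgroup.map_mono (f := (MulAut.conj ((m' * m⁻¹ : M) : G)).toMonoidHom) hle
      rw [hconj, conj_mem_of_le_normalizer hWn (m' * m⁻¹).2] at h1
      have h2 : act (m' * m⁻¹) c = c' := by
        rw [← hm', ← hm]
        apply Subtype.ext
        show ((m' * m⁻¹ : M) : G) • ((m : G) • b) = (m' : G) • b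
        rw [smul_smul]
        simp
      rw [h2] at h1
      exact h1 hx
    intro x hx
    obtain ⟨w, hw, k, hkE, hk, rfl⟩ := hsupall (V ⊓ E) inf_le_right (hEM.trans hWn) Set.univ
      (fun c _ => hnot c) x hx
    rw [hinter k hkE fun c => hk c trivial, mul_one]
    exact hw.1
  have hcenE : ∀ W : Subgroup G, W ≤ E → E ≤ Subgroup.normalizer (W : Set G) → W ≠ E →
      ∃ x ∈ E, x ≠ 1 ∧ x ∈ Subgroup.centralizer (W : Set G) := by
    intro W hW hWn hne
    obtain ⟨c, hc⟩ : ∃ c, W ≤ F c := by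
      by_contra hc
      push Not at hc
      refine hne (le_antisymm hW fun x hx => ?_)
      obtain ⟨w, hw, k, hkE, hk, rfl⟩ := hsupall W hW hWn Set.univ (fun c _ => hc c) x hx
      rwa [hinter k hkE fun c => hk c trivial, mul_one]
    obtain ⟨x, hxE, hxc⟩ := SetLike.exists_of_lt (lt_of_le_of_ne (hFE c) (hFne c))
    obtain ⟨w, hw, k, hkE, hk, rfl⟩ := hsupall (F c) (hFE c) (hcE c) {c' | c' ≠ c}
      (fun c' hc' hle => hc' (hinj (Subgroup.eq_of_le_of_card_ge hle (by rw [hFcard c, hFcard c']))).symm) x hxE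
    refine ⟨k, hkE, fun h1 => hxc (by rw [h1, mul_one]; exact hw), ?_⟩
    refine Subgroup.mem_centralizer_iff.mpr fun y hy => ?_
    have hyc : y ∈ F c := hc hy
    rw [← commutatorElement_eq_one_iff_mul_comm]
    refine hinter _ (hEE ▸ Subgroup.commutator_mem_commutator (hW hy) hkE) fun c' => ?_
    by_cases hcc : c' = c
    · subst hcc
      rw [show ⁅y, k⁆ = y * (k * y⁻¹ * k⁻¹) by group]
      exact mul_mem hyc ((Subgroup.mem_normalizer_iff.mp (hcE _ hkE) _).mp (inv_mem hyc))
    · exact mul_mem ((Subgroup.mem_normalizer_iff.mp (hcE c' (hW hy)) k).mp (hk c' hcc))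
        (inv_mem (hk c' hcc))
  -- the corresponding subgroup of `N`
  obtain ⟨e⟩ := h.iso
  set j : ↥M →* G := N.subtype.comp e.toMonoidHom with hj
  have hjinj : Function.Injective j := N.subtype_injective.comp e.injective
  set E' := (E.subgroupOf M).map j with hE'
  have hE'N : E' ≤ N := by rintro _ ⟨x, -, rfl⟩; exact (e x).2
  have hE'E : ⁅E', E'⁆ = E' := by
    rw [hE', ← Subgroup.map_commutator]
    congr 1
    apply Subgroup.map_injective M.subtype_injective
    rw [Subgroup.map_commutator, Subgroup.map_subgroupOf_eq_of_le hEM, hEE]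
  have hNE' : N ≤ Subgroup.normalizer (E' : Set G) := by
    haveI : (E.subgroupOf M).Normal := Subgroup.normal_subgroupOf_of_le_normalizer hME
    have h1 := (Subgroup.map_mono (f := j)
      (Subgroup.le_normalizer_of_normal : (⊤ : Subgroup M) ≤ Subgroup.normalizer ((E.subgroupOf M) : Set M))).trans
      (Subgroup.le_normalizer_map j)
    refine le_trans (fun x hx => ?_) h1
    exact ⟨e.symm ⟨x, hx⟩, trivial, by simp [hj]⟩
  have hcardE : Nat.card E' = Nat.card E := by
    rw [hE', card_map_of_injective hjinj, card_subgroupOf hEM]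
  have hE'L : E' ≤ L := by
    set V := (L.subgroupOf N).map (M.subtype.comp e.symm.toMonoidHom) with hV
    have hVM : V ≤ M := by rintro _ ⟨x, -, rfl⟩; exact (e.symm x).2
    have hMV : M ≤ Subgroup.normalizer (V : Set G) := by
      haveI : (L.subgroupOf N).Normal :=
        Subgroup.normal_subgroupOf_of_le_normalizer (le_normalizer_orbitKer b a)
      have h1 := (Subgroup.map_mono (f := M.subtype.comp e.symm.toMonoidHom)
        (Subgroup.le_normalizer_of_normal : (⊤ : Subgroup N) ≤ Subgroup.normalizer ((L.subgroupOf N) : Set N))).trans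
        (Subgroup.le_normalizer_map _)
      refine le_trans (fun x hx => ?_) h1
      exact ⟨e ⟨x, hx⟩, trivial, by simp⟩
    have hV0 : V ≠ ⊥ := by
      intro h0
      apply hLK
      rw [hV, Subgroup.map_eq_bot_iff_of_injective _
        (f := M.subtype.comp e.symm.toMonoidHom) (M.subtype_injective.comp e.symm.injective),
        Subgroup.subgroupOf_eq_bot, disjoint_iff, inf_eq_left.mpr (hLI.trans inf_le_right)] at h0
      exact h0.le.trans bot_le
    rintro _ ⟨x, hx, rfl⟩
    obtain ⟨y, hy, hye⟩ := hmin V hVM hMV hV0 (Subgroup.mem_subgroupOf.mp hx)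
    have hxy : e.symm y = x := Subtype.ext hye
    show ((e x : N) : G) ∈ L
    rw [← hxy, MulEquiv.apply_symm_apply]
    exact hy
  have hE'I : E' ≤ M ⊓ N := hE'L.trans hLI
  have hIE' : M ⊓ N ≤ Subgroup.normalizer (E' : Set G) := inf_le_right.trans hNE'
  have hE'K : ¬ E' ≤ K := by
    intro hle
    have heq : E' = E := Subgroup.eq_of_le_of_card_ge (hEmax E' hle hE'E) hcardE.ge
    exact hEbot (h.eq_bot_of_normalized hEM hME (heq ▸ hNE'))
  obtain ⟨htr, -⟩ := sup_inf_of_perfect a b d hd h6 halt hE'I hE'E hIE' hE'K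
  set W := E ⊓ E' with hW
  have hWn : M ⊓ N ≤ Subgroup.normalizer (W : Set G) :=
    (le_inf (inf_le_left.trans hME) hIE').trans Subgroup.inf_normalizer_le_normalizer_inf
  have hWb : W ≤ F ⟨b, hb⟩ := le_inf inf_le_left (inf_le_right.trans hE'L)
  have hWc : ∀ c, c ≠ (⟨b, hb⟩ : (orbit M b : Set Ω)) → ¬ W ≤ F c := by
    intro c hc hle
    have h0 : W = ⊥ := (Subgroup.eq_bot_iff_forall _).mpr fun x hx => hinter x hx.1 fun c' => by
      by_cases hc' : c' = ⟨b, hb⟩
      · rw [hc']; exact hWb hx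
      obtain ⟨g, hg, hgc⟩ := htr c c' ⟨c.2, fun he => hc (Subtype.ext he)⟩
        ⟨c'.2, fun he => hc' (Subtype.ext he)⟩
      have h1 := Subgroup.map_mono (f := (MulAut.conj g).toMonoidHom) hle
      rw [conj_mem_of_le_normalizer hWn (hE'I hg)] at h1
      rw [show (MulAut.conj g).toMonoidHom =
        (MulAut.conj ((⟨g, (hE'I hg).1⟩ : M) : G)).toMonoidHom from rfl, hconj,
        show act ⟨g, (hE'I hg).1⟩ c = c' from Subtype.ext hgc] at h1
      exact h1 hx
    refine hE'K (le_of_le_of_eq (le_inf (hE'I.trans inf_le_left) ?_) hcent |>.trans bot_le)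
    exact le_centralizer_of_inf_eq_bot ((hE'I.trans inf_le_left).trans hME) (hEI.trans hIE')
      (by rw [inf_comm]; exact h0)
  have hWeq : W = F ⟨b, hb⟩ := by
    refine le_antisymm hWb fun x hx => ?_
    obtain ⟨w, hw, k, hkE, hk, rfl⟩ := hsupall W inf_le_left (hEI.trans hWn)
      {c | c ≠ ⟨b, hb⟩} hWc x hx.1
    have hkb : k ∈ F ⟨b, hb⟩ := (Subgroup.mul_mem_cancel_left _ (hWb hw)).mp hx
    rw [hinter k hkE fun c => if hc : c = ⟨b, hb⟩ then hc ▸ hkb else hk c hc, mul_one]
    exact hw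
  -- the centraliser of `W` in `E'`
  obtain ⟨x, hx, hx1, hxC⟩ : ∃ x ∈ E', x ≠ 1 ∧ x ∈ Subgroup.centralizer (W : Set G) := by
    set W0 := ((W.subgroupOf N).map e.symm.toMonoidHom).map M.subtype with hW0
    have hWN : W ≤ N := inf_le_right.trans hE'N
    have hW0E : W0 ≤ E := by
      rintro _ ⟨y, ⟨z, hz, rfl⟩, rfl⟩
      obtain ⟨y', hy', hye⟩ := (Subgroup.mem_subgroupOf.mp hz : (z : G) ∈ W).2
      have : y' = e.symm z := by
        rw [MulEquiv.eq_symm_apply]; exact Subtype.ext hye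
      exact this ▸ hy'
    have hW0n : E ≤ Subgroup.normalizer (W0 : Set G) := by
      refine CfsgLib.Components.le_normalizer_of_conj_mem fun g hg y hy => ?_
      obtain ⟨_, ⟨z, hz, rfl⟩, rfl⟩ := hy
      set g' : ↥M := ⟨g, hEM hg⟩ with hg'
      refine ⟨_, ⟨e g' * z * (e g')⁻¹, ?_, rfl⟩, ?_⟩
      · exact Subgroup.mem_subgroupOf.mpr ((Subgroup.mem_normalizer_iff.mp
          ((le_inf (hE'I.trans (inf_le_left.trans hME)) Subgroup.le_normalizer).trans
            Subgroup.inf_normalizer_le_normalizer_inf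
            (⟨g', Subgroup.mem_subgroupOf.mpr hg, rfl⟩ : ((e g' : N) : G) ∈ E')) _).mp
          (Subgroup.mem_subgroupOf.mp hz))
      · simp [hg']
    have hW0ne : W0 ≠ E := by
      intro h0
      refine hE'K (le_trans ?_ ((inf_le_left : W ≤ E).trans hEK))
      rintro _ ⟨y, hy, rfl⟩
      have hyW : ((y : M) : G) ∈ W0 := h0 ▸ Subgroup.mem_subgroupOf.mp hy
      obtain ⟨_, ⟨z, hz, rfl⟩, hye⟩ := hyW
      have : e.symm z = y := Subtype.ext hye
      show ((e y : N) : G) ∈ W
      rw [← this, MulEquiv.apply_symm_apply]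
      exact hz
    obtain ⟨x, hxE, hx1, hxC⟩ := hcenE W0 hW0E hW0n hW0ne
    refine ⟨j ⟨x, hEM hxE⟩, ⟨_, hxE, rfl⟩, fun h1 => hx1 ?_, ?_⟩
    · exact congrArg Subtype.val (hjinj (h1.trans (map_one j).symm) : (⟨x, hEM hxE⟩ : M) = 1)
    · refine Subgroup.mem_centralizer_iff.mpr fun y hy => ?_
      set z : ↥N := ⟨y, hWN hy⟩ with hz
      have h1 : ((e.symm z : M) : G) ∈ W0 := ⟨_, ⟨z, hy, rfl⟩, rfl⟩
      have h2 : e.symm z * ⟨x, hEM hxE⟩ = ⟨x, hEM hxE⟩ * e.symm z :=
        Subtype.ext (Subgroup.mem_centralizer_iff.mp hxC _ h1)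
      have h3 := congrArg (fun m : M => ((e m : N) : G)) h2
      simp only [map_mul, MulEquiv.apply_symm_apply] at h3
      exact h3
  set C := E' ⊓ Subgroup.centralizer (W : Set G) with hC
  have hCn : M ⊓ N ≤ Subgroup.normalizer (C : Set G) :=
    (le_inf hIE' (hWn.trans (CfsgLib.PLocal.normalizer_le_centralizer_normalizer _))).trans
      Subgroup.inf_normalizer_le_normalizer_inf
  have hCK : C ≤ K := by
    rintro x ⟨hx, hxC⟩
    refine ⟨(hE'I hx).1, (mem_fixingSubgroup_iff G).mpr fun c hc => ?_⟩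
    by_cases hcb : c = b
    · rw [hcb]; exact mem_stabilizer_iff.mp (hE'I hx).2
    set c' := act ⟨x, (hE'I hx).1⟩ ⟨c, hc⟩ with hc'
    by_contra hne
    have hne' : c' ≠ ⟨c, hc⟩ := fun he => hne (congrArg Subtype.val he)
    have hc'b : c' ≠ ⟨b, hb⟩ := fun he => hcb (smul_left_cancel x ((congrArg Subtype.val he).trans
      (mem_stabilizer_iff.mp (hE'I hx).2).symm))
    have heq : F c' ⊓ W = F ⟨c, hc⟩ ⊓ W := by
      have h2 : (F ⟨c, hc⟩ ⊓ W).map (MulAut.conj x).toMonoidHom = F c' ⊓ W := by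
        rw [Subgroup.map_inf_eq _ _ _ (MulEquiv.injective _),
          conj_mem_of_le_normalizer hWn (hE'I hx), hc', ← hconj]
      rw [← h2]
      exact map_conj_eq_self_iff.mpr
        (Subgroup.centralizer_le_normalizer _ (Subgroup.centralizer_le inf_le_right hxC))
    refine hFne c' (le_antisymm (hFE c') fun y hy => ?_)
    have hS : ∀ c'' ∈ ({⟨c, hc⟩, ⟨b, hb⟩} : Set (orbit M b : Set Ω)), ¬ F c' ≤ F c'' := by
      intro c'' hc'' hle
      have := hinj (Subgroup.eq_of_le_of_card_ge hle (by rw [hFcard c', hFcard c'']))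
      rcases hc'' with rfl | rfl
      · exact hne' this
      · exact hc'b this
    obtain ⟨w, hw, k, hkE, hk, rfl⟩ := hsupall (F c') (hFE c') (hcE c') _ hS y hy
    refine mul_mem hw ((heq ▸ inf_le_left : F ⟨c, hc⟩ ⊓ W ≤ F c') ⟨hk _ (Or.inl rfl), ?_⟩)
    rw [hWeq]
    exact hk _ (Or.inr rfl)
  have hC0 : C = ⊥ := by
    refine eq_bot_of_isSolvable hI (hCK.trans hKI) hCn (hEsolv _ hCK ?_)
    refine eq_bot_of_isSolvable hI (inf_le_right.trans hEI)
      ((le_inf hCn (inf_le_left.trans hME)).trans Subgroup.inf_normalizer_le_normalizer_inf) ?_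
    haveI : IsMulCommutative ↥(C ⊓ E) :=
      ⟨⟨fun x y => Subtype.ext (Subgroup.mem_centralizer_iff.mp y.2.1.2 x ⟨x.2.2, x.2.1.1⟩)⟩⟩
    exact Group.isSolvable_of_comm fun x y => IsMulCommutative.is_comm.comm x y
  exact hx1 (Subgroup.mem_bot.mp (hC0 ▸ (⟨hx, hxC⟩ : x ∈ C)))

end CfsgLib.Recog.AltSub
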