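import Cfsg.Agent.Lib.Recog.AltSubconstituent.Basic

/-!
# The two suborbit actions of a two-point stabiliser
-/

set_option autoImplicit false
set_option linter.style.haveILetI false
set_option linter.unusedSectionVars false

open scoped commutatorElement Pointwise
open MulAction CfsgLib.Recog.TW CfsgLib.Base

namespace CfsgLib.Recog.AltSub

variable {G Ω : Type*} [Group G] [MulAction G Ω]

theorem restHom_inv (a b : Ω) (k : ↥(stabilizer G a ⊓ stabilizer G b)) (x : Ω) :
    (k : G) • x ∈ (orbit (stabilizer G a) b \ {b} : Set Ω) ↔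
      x ∈ (orbit (stabilizer G a) b \ {b} : Set Ω) := by
  have key : ∀ (k : ↥(stabilizer G a ⊓ stabilizer G b)) (x : Ω),
      x ∈ (orbit (stabilizer G a) b \ {b} : Set Ω) →
        (k : G) • x ∈ (orbit (stabilizer G a) b \ {b} : Set Ω) := by
    rintro k x ⟨hx, hxb⟩
    refine ⟨smul_mem_orbit_stabilizer k.2.1 hx, fun he => hxb ?_⟩
    exact (smul_left_cancel (k : G) (Eq.trans (show (k : G) • x = b from he)
      (mem_stabilizer_iff.mp k.2.2).symm) : x = b)
  refine ⟨fun h => ?_, key k x⟩
  have := key k⁻¹ _ h
  rwa [Subgroup.coe_inv, inv_smul_smul] at this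

/-- The action of the two-point stabiliser of `a`, `b` on the suborbit of `b` minus `b`. -/
noncomputable def restHom (G : Type*) {Ω : Type*} [Group G] [MulAction G Ω] (a b : Ω) :
    ↥(stabilizer G a ⊓ stabilizer G b) →*
      Equiv.Perm ↥(orbit (stabilizer G a) b \ {b} : Set Ω) where
  toFun k := (MulAction.toPerm (k : G)).subtypePerm
    (p := fun x => x ∈ (orbit (stabilizer G a) b \ {b} : Set Ω)) (restHom_inv a b k)
  map_one' := Equiv.ext fun x => Subtype.ext (one_smul G (x : Ω))
  map_mul' k l := Equiv.ext fun x => Subtype.ext (mul_smul (k : G) (l : G) (x : Ω))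

theorem restHom_apply (a b : Ω) (k : ↥(stabilizer G a ⊓ stabilizer G b))
    (x : ↥(orbit (stabilizer G a) b \ {b} : Set Ω)) :
    (restHom G a b k x : Ω) = (k : G) • (x : Ω) := rfl

theorem ker_restHom (a b : Ω) :
    (restHom G a b).ker = (orbitKer G a b).subgroupOf (stabilizer G a ⊓ stabilizer G b) := by
  ext k
  rw [MonoidHom.mem_ker, Subgroup.mem_subgroupOf]
  constructor
  · intro h
    refine ⟨k.2.1, (mem_fixingSubgroup_iff G).mpr fun x hx => ?_⟩
    by_cases hxb : x = b
    · rw [hxb]; exact mem_stabilizer_iff.mp k.2.2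
    · exact congrArg Subtype.val (Equiv.ext_iff.mp h ⟨x, hx, hxb⟩)
  · intro h
    exact Equiv.ext fun x => Subtype.ext ((mem_fixingSubgroup_iff G).mp h.2 x x.2.1)

theorem orbitKer_le_inf (a b : Ω) :
    orbitKer G a b ≤ stabilizer G a ⊓ stabilizer G b :=
  le_inf inf_le_left (orbitKer_le_right a b)

theorem orbit_stabilizer_smul (g : G) (a b : Ω) :
    (orbit (stabilizer G (g • a)) (g • b) : Set Ω) = g • (orbit (stabilizer G a) b : Set Ω) := by
  ext x
  constructor
  · rintro ⟨m, rfl⟩
    refine Set.mem_smul_set.mpr ⟨g⁻¹ • ((m : G) • g • b), ⟨⟨g⁻¹ * (m : G) * g, ?_⟩, ?_⟩, smul_inv_smul g _⟩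
    · rw [mem_stabilizer_iff, mul_smul, mul_smul, mem_stabilizer_iff.mp m.2, inv_smul_smul]
    · change (g⁻¹ * (m : G) * g) • b = _
      rw [mul_smul, mul_smul]
  · rintro hx
    obtain ⟨y, ⟨m, rfl⟩, rfl⟩ := Set.mem_smul_set.mp hx
    refine ⟨⟨g * (m : G) * g⁻¹, ?_⟩, ?_⟩
    · rw [mem_stabilizer_iff, mul_smul, mul_smul, inv_smul_smul, mem_stabilizer_iff.mp m.2]
    · change (g * (m : G) * g⁻¹) • g • b = g • (m : G) • b
      rw [mul_smul, mul_smul, inv_smul_smul]

theorem map_conj_orbitKer (g : G) (a b : Ω) :
    (orbitKer G a b).map (MulAut.conj g).toMonoidHom = orbitKer G (g • a) (g • b) := by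
  have hle : ∀ (g : G) (a b : Ω),
      (orbitKer G a b).map (MulAut.conj g).toMonoidHom ≤ orbitKer G (g • a) (g • b) := by
    intro g a b
    rintro _ ⟨x, ⟨hxa, hxf⟩, rfl⟩
    change g * x * g⁻¹ ∈ _
    refine ⟨?_, (mem_fixingSubgroup_iff G).mpr fun y hy => ?_⟩
    · show (g * x * g⁻¹) • g • a = g • a
      rw [mul_smul, mul_smul, inv_smul_smul, mem_stabilizer_iff.mp hxa]
    · rw [orbit_stabilizer_smul] at hy
      obtain ⟨z, hz, rfl⟩ := Set.mem_smul_set.mp hy
      rw [mul_smul, mul_smul, inv_smul_smul, (mem_fixingSubgroup_iff G).mp hxf z hz]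
  refine le_antisymm (hle g a b) ?_
  have h := Subgroup.map_mono (f := (MulAut.conj g).toMonoidHom) (hle g⁻¹ (g • a) (g • b))
  rw [Subgroup.map_map, inv_smul_smul, inv_smul_smul] at h
  refine le_trans ?_ h
  intro x hx
  exact ⟨x, hx, by simp [mul_assoc]⟩

variable [Finite G] [Finite Ω]

theorem card_rest_set (a b : Ω) (d : ℕ) (hd : Nat.card (orbit (stabilizer G a) b) = d) :
    Nat.card ↥(orbit (stabilizer G a) b \ {b} : Set Ω) = d - 1 := by
  rw [Nat.card_coe_set_eq, Set.ncard_sdiff_singleton_of_mem (mem_orbit_self b),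
    ← Nat.card_coe_set_eq, hd]

theorem card_range_restHom (a b : Ω) (d : ℕ) (hd : Nat.card (orbit (stabilizer G a) b) = d) :
    d * Nat.card (restHom G a b).range =
      Nat.card (toPermHom (stabilizer G a) (orbit (stabilizer G a) b)).range := by
  set φ := toPermHom (stabilizer G a) (orbit (stabilizer G a) b) with hφ
  have hI := card_stabilizer_eq_card_orbit_mul (G := G) a b
  have h1 := Subgroup.card_mul_index φ.ker
  rw [Subgroup.index_ker, hφ, ker_toPermHom_orbit, card_subgroupOf inf_le_left, ← hφ] at h1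
  have h2 := Subgroup.card_mul_index (restHom G a b).ker
  rw [Subgroup.index_ker, ker_restHom, card_subgroupOf (orbitKer_le_inf a b)] at h2
  rw [hd, ← h1, ← h2] at hI
  refine (Nat.eq_of_mul_eq_mul_left (Nat.card_pos (α := orbitKer G a b)) ?_)
  rw [hI]
  ring

theorem index_restHom (a b : Ω) (d : ℕ) (hd : Nat.card (orbit (stabilizer G a) b) = d) :
    (restHom G a b).range.index =
      (toPermHom (stabilizer G a) (orbit (stabilizer G a) b)).range.index := by
  haveI : Nonempty (orbit (stabilizer G a) b) := ⟨⟨b, mem_orbit_self b⟩⟩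
  have hd0 : 0 < d := hd ▸ Nat.card_pos
  set φ := toPermHom (stabilizer G a) (orbit (stabilizer G a) b) with hφ
  have h1 : Nat.card φ.range * φ.range.index = d.factorial := by
    rw [Subgroup.card_mul_index, Nat.card_perm, hd]
  have h2 : Nat.card (restHom G a b).range * (restHom G a b).range.index = (d - 1).factorial := by
    rw [Subgroup.card_mul_index, Nat.card_perm, card_rest_set a b d hd]
  rw [← card_range_restHom a b d hd, ← Nat.mul_factorial_pred hd0.ne', ← h2, mul_assoc] at h1
  have h3 := Nat.eq_of_mul_eq_mul_left hd0 h1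
  exact (Nat.eq_of_mul_eq_mul_left Nat.card_pos h3).symm

/-- If one suborbit carries the alternating group, so does the paired one. -/
theorem index_paired_le_two [IsPretransitive G Ω] (a b : Ω) (d : ℕ)
    (hd : Nat.card (orbit (stabilizer G a) b) = d) (h5 : 5 ≤ d)
    (halt : (toPermHom (stabilizer G a) (orbit (stabilizer G a) b)).range.index ≤ 2)
    (e : ↥(stabilizer G b) ≃* ↥(stabilizer G a))
    (h0 : cA2 (stabilizer G a) (stabilizer G b) = ⊥ ∨ cA2 (stabilizer G b) (stabilizer G a) = ⊥) :
    (toPermHom (stabilizer G b) (orbit (stabilizer G b) a)).range.index ≤ 2 := by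
  classical
  haveI : Fintype (orbit (stabilizer G a) b) := Fintype.ofFinite _
  have h5' : 5 ≤ Nat.card (orbit (stabilizer G a) b) := hd.symm ▸ h5
  have hd' : Nat.card (orbit (stabilizer G b) a) = d := by
    rw [card_orbit_stabilizer_symm b a, hd]
  set φ := toPermHom (stabilizer G a) (orbit (stabilizer G a) b) with hφ
  set φ' := toPermHom (stabilizer G b) (orbit (stabilizer G b) a) with hφ'
  set f := φ.comp e.toMonoidHom with hf
  have hfr : f.range = φ.range := by
    rw [hf, MonoidHom.range_comp]
    simp [← MonoidHom.range_eq_map]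
  have hfalt : alternatingGroup (orbit (stabilizer G a) b) ≤ f.range :=
    hfr ▸ Equiv.Perm.alternatingGroup_le_of_index_le_two halt
  rcases eq_bot_or_alt_le h5' (X := φ'.ker.map f) hfalt (by
      rw [MonoidHom.range_eq_map]
      exact (Subgroup.map_mono Subgroup.le_normalizer_of_normal).trans
        (Subgroup.le_normalizer_map f)) with h | h
  · -- the quotient on the paired suborbit maps onto the original one
    have h1 : Nat.card φ.range ∣ Nat.card φ'.range := by
      rw [← hfr, ← Subgroup.index_ker, ← Subgroup.index_ker]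
      exact Subgroup.index_dvd_of_le ((Subgroup.map_eq_bot_iff _).mp h)
    have h2 := Subgroup.card_mul_index φ'.range
    have h3 := Subgroup.card_mul_index φ.range
    rw [Nat.card_perm, hd'] at h2
    rw [Nat.card_perm, hd] at h3
    obtain ⟨k, hk⟩ := h1
    rw [hk, mul_assoc, ← h3] at h2
    have h4 := Nat.eq_of_mul_eq_mul_left Nat.card_pos h2
    exact (Nat.le_of_dvd (Nat.pos_of_ne_zero Subgroup.index_ne_zero_of_finite)
      (Dvd.intro_left k h4)).trans halt
  · exfalso
    have hker : φ'.ker = (orbitKer G b a).subgroupOf (stabilizer G b) := ker_toPermHom_orbit b a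
    set L := orbitKer G b a with hL
    set f₁ : ↥L →* Equiv.Perm (orbit (stabilizer G a) b) :=
      f.comp (Subgroup.inclusion (inf_le_left : L ≤ stabilizer G b)) with hf₁
    have hf₁r : alternatingGroup (orbit (stabilizer G a) b) ≤ f₁.range := by
      rw [hf₁, MonoidHom.range_comp, Subgroup.inclusion_range, ← hker]
      exact h
    have hsmall : Nat.card (Equiv.Perm (Fin (d - 1))) <
        Nat.card ↥(alternatingGroup (orbit (stabilizer G a) b)) := by
      have h1 := two_mul_card_alt (α := orbit (stabilizer G a) b) (by omega)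
      rw [hd] at h1
      rw [Nat.card_perm, Nat.card_fin]
      have h2 := Nat.mul_factorial_pred (show d ≠ 0 by omega)
      have h3 := Nat.factorial_pos (d - 1)
      nlinarith
    rcases h0 with h0 | h0
    · -- first cut down to the common kernel
      have hLI : L ≤ stabilizer G a ⊓ stabilizer G b := inf_comm (stabilizer G b) _ ▸ orbitKer_le_inf b a
      set π := (restHom G a b).comp (Subgroup.inclusion hLI) with hπ
      have hstep := alt_le_map_of_small h5' f₁ (X := ⊤) (Y := π.ker) hf₁r
        (by rwa [← MonoidHom.range_eq_map]) le_top (by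
          rw [Subgroup.relIndex_top_right, Subgroup.index_ker]
          refine lt_of_le_of_lt (Subgroup.card_le_card_group _) ?_
          rwa [Nat.card_perm, card_rest_set a b d hd, ← Nat.card_fin (d - 1), ← Nat.card_perm])
      have hπK : ∀ x : π.ker, ((x : ↥L) : G) ∈ orbitKer G a b := fun x => by
        have h1 : (Subgroup.inclusion hLI (x : ↥L)) ∈ (restHom G a b).ker := x.2
        rw [ker_restHom, Subgroup.mem_subgroupOf] at h1
        exact h1
      obtain ⟨Φ, hΦ⟩ := exists_orbitKer_hom (G := G) a b d hd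
      let ι : ↥π.ker →* ↥(orbitKer G a b) :=
        { toFun := fun x => ⟨((x : ↥L) : G), hπK x⟩
          map_one' := rfl
          map_mul' := fun _ _ => rfl }
      refine false_of_small h5' (f₁.comp π.ker.subtype) ?_ (Φ.comp ι) ?_ hsmall
      · rw [MonoidHom.range_comp, Subgroup.range_subtype]
        exact hstep
      · refine (MonoidHom.ker_eq_bot_iff _).mp ((Subgroup.eq_bot_iff_forall _).mpr fun x hx => ?_)
        have h1 : ((x : ↥L) : G) ∈ cA2 (stabilizer G a) (stabilizer G b) :=
          hΦ ⟨ι x, hx, rfl⟩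
        rw [h0] at h1
        exact Subtype.ext (Subtype.ext (Subgroup.mem_bot.mp h1))
    · obtain ⟨Φ, hΦ⟩ := exists_orbitKer_hom (G := G) b a d hd'
      refine false_of_small h5' f₁ hf₁r Φ ?_ hsmall
      refine (MonoidHom.ker_eq_bot_iff _).mp ((Subgroup.eq_bot_iff_forall _).mpr fun x hx => ?_)
      have h1 : (x : G) ∈ cA2 (stabilizer G b) (stabilizer G a) := hΦ ⟨x, hx, rfl⟩
      rw [h0] at h1
      exact Subtype.ext (Subgroup.mem_bot.mp h1)

/-- Neither suborbit kernel contains the other. -/
theorem not_orbitKer_le [FaithfulSMul G Ω] [IsPreprimitive G Ω] (a b : Ω) (d : ℕ)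
    (hd : Nat.card (orbit (stabilizer G a) b) = d) (h6 : 6 ≤ d)
    (halt : (toPermHom (stabilizer G a) (orbit (stabilizer G a) b)).range.index ≤ 2)
    (halt' : (toPermHom (stabilizer G b) (orbit (stabilizer G b) a)).range.index ≤ 2)
    (hK : orbitKer G a b ≠ ⊥) : ¬ orbitKer G b a ≤ orbitKer G a b := by
  classical
  intro hLK
  have h := hyp_stabilizer (G := G) (a := a) (b := b) (by omega)
  have hd' : Nat.card (orbit (stabilizer G b) a) = d := by
    rw [card_orbit_stabilizer_symm b a, hd]
  haveI : Fintype ↥(orbit (stabilizer G b) a \ {a} : Set Ω) := Fintype.ofFinite _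
  have h5' : 5 ≤ Nat.card ↥(orbit (stabilizer G b) a \ {a} : Set Ω) := by
    rw [card_rest_set b a d hd']; omega
  set ψ := restHom G b a with hψ
  set K := orbitKer G a b with hKdef
  set L := orbitKer G b a with hLdef
  have hKI : K ≤ stabilizer G b ⊓ stabilizer G a :=
    inf_comm (stabilizer G a) _ ▸ orbitKer_le_inf a b
  have hrange := Equiv.Perm.alternatingGroup_le_of_index_le_two
    ((index_restHom b a d hd').trans_le halt')
  haveI : (K.subgroupOf (stabilizer G b ⊓ stabilizer G a)).Normal :=
    Subgroup.normal_subgroupOf_of_le_normalizer (inf_le_right.trans (le_normalizer_orbitKer a b))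
  rcases eq_bot_or_alt_le h5' (X := (K.subgroupOf (stabilizer G b ⊓ stabilizer G a)).map ψ) hrange
      (by rw [MonoidHom.range_eq_map]
          exact (Subgroup.map_mono Subgroup.le_normalizer_of_normal).trans
            (Subgroup.le_normalizer_map ψ)) with h0 | h0
  · rw [Subgroup.map_eq_bot_iff, hψ, ker_restHom] at h0
    have hKL : K ≤ L := fun x hx =>
      Subgroup.mem_subgroupOf.mp (h0 (show (⟨x, hKI hx⟩ : ↥(stabilizer G b ⊓ stabilizer G a)) ∈
        K.subgroupOf (stabilizer G b ⊓ stabilizer G a) from hx))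
    refine hK (h.eq_bot_of_normalized inf_le_left (le_normalizer_orbitKer a b) ?_)
    rw [le_antisymm hKL hLK]
    exact le_normalizer_orbitKer b a
  · -- the kernel would be too large
    have hIK : Nat.card (restHom G a b).range * Nat.card K =
        Nat.card ↥(stabilizer G b ⊓ stabilizer G a) := by
      have h1 := Subgroup.card_mul_index (restHom G a b).ker
      rw [Subgroup.index_ker, ker_restHom, card_subgroupOf (orbitKer_le_inf a b)] at h1
      rw [mul_comm, h1, inf_comm]
    have hIL : Nat.card ψ.range * Nat.card L = Nat.card ↥(stabilizer G b ⊓ stabilizer G a) := by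
      have h1 := Subgroup.card_mul_index (restHom G b a).ker
      rw [Subgroup.index_ker, ker_restHom, card_subgroupOf (orbitKer_le_inf b a)] at h1
      rw [mul_comm, hψ, h1]
    set X := K.subgroupOf (stabilizer G b ⊓ stabilizer G a) with hX
    have hKL : Nat.card (X.map ψ) * Nat.card L = Nat.card K := by
      have h1 := Subgroup.card_mul_index (ψ.comp X.subtype).ker
      rw [Subgroup.index_ker, MonoidHom.range_comp, Subgroup.range_subtype,
        ← MonoidHom.comap_ker] at h1
      rw [show Nat.card X = Nat.card K from card_subgroupOf hKI] at h1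
      rw [mul_comm, ← h1]
      congr 1
      rw [hψ, ker_restHom]
      have h2 : (L.subgroupOf (stabilizer G b ⊓ stabilizer G a)).subgroupOf X ≃* L :=
        (Subgroup.subgroupOfEquivOfLe (H := L.subgroupOf (stabilizer G b ⊓ stabilizer G a)) (K := X)
          (fun x hx => Subgroup.mem_subgroupOf.mpr (hLK (Subgroup.mem_subgroupOf.mp hx)))).trans
          (Subgroup.subgroupOfEquivOfLe (orbitKer_le_inf b a))
      exact (Nat.card_congr h2.toEquiv).symm
    have hA := Subgroup.card_le_of_le h0
    have hA2 := two_mul_card_alt (α := ↥(orbit (stabilizer G b) a \ {a} : Set Ω)) (by omega)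
    rw [card_rest_set b a d hd'] at hA2
    have hψle : Nat.card ψ.range ≤ (d - 1).factorial := by
      refine (Subgroup.card_le_card_group _).trans ?_
      rw [Nat.card_perm, card_rest_set b a d hd']
    have hr := index_restHom a b d hd
    have hr2 := Subgroup.card_mul_index (restHom G a b).range
    rw [Nat.card_perm, card_rest_set a b d hd, hr] at hr2
    have hge : (d - 1).factorial ≤ Nat.card (restHom G a b).range * 2 :=
      hr2 ▸ Nat.mul_le_mul_left _ halt
    have h120 : 120 ≤ (d - 1).factorial :=
      le_trans (by decide : 120 ≤ Nat.factorial 5) (Nat.factorial_le (by omega))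
    have hLpos : 0 < Nat.card L := Nat.card_pos
    rw [← hKL, ← hIL, ← mul_assoc] at hIK
    have h5 := Nat.eq_of_mul_eq_mul_right hLpos hIK
    nlinarith

end CfsgLib.Recog.AltSub
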