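import Cfsg.Agent.Lib.Recog.AltSubconstituent.Inter

/-!
# Point stabilisers with an unfaithful alternating or symmetric subconstituent
-/

set_option autoImplicit false
set_option linter.style.haveILetI false
set_option linter.unusedSectionVars false
set_option maxHeartbeats 800000

open scoped commutatorElement Pointwise
open MulAction CfsgLib.Recog.TW CfsgLib.Base Cfsg

namespace CfsgLib.Recog.AltSub

variable {G Ω : Type*} [Group G] [MulAction G Ω]

/-- A subdirect subgroup of two symmetric groups containing both alternating groups. -/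
theorem subdirect_cases {α β : Type*} [Fintype α] [DecidableEq α] [Fintype β] [DecidableEq β]
    (R : Subgroup (Equiv.Perm α × Equiv.Perm β))
    (h1 : ∀ σ ∈ alternatingGroup α, (σ, 1) ∈ R) (h2 : ∀ τ ∈ alternatingGroup β, (1, τ) ∈ R) :
    ((∀ x ∈ R, Equiv.Perm.sign x.1 = 1) → (∀ x ∈ R, Equiv.Perm.sign x.2 = 1) →
      R = (alternatingGroup α).prod (alternatingGroup β)) ∧
    ((∃ x ∈ R, Equiv.Perm.sign x.1 = -1) →
      R = (⊤ : Subgroup (Equiv.Perm α)).prod (alternatingGroup β) ∨ R = ⊤ ∨
      R = ((Equiv.Perm.sign.comp (MonoidHom.fst (Equiv.Perm α) (Equiv.Perm β))) *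
        (Equiv.Perm.sign.comp (MonoidHom.snd (Equiv.Perm α) (Equiv.Perm β)))).ker) := by
  classical
  have hsplit : ∀ σ τ, σ ∈ alternatingGroup α → τ ∈ alternatingGroup β → (σ, τ) ∈ R := by
    intro σ τ hσ hτ
    have := mul_mem (h1 σ hσ) (h2 τ hτ)
    simpa using this
  -- membership depends only on the pair of signs
  have hsign : ∀ x ∈ R, ∀ y : Equiv.Perm α × Equiv.Perm β, Equiv.Perm.sign y.1 = Equiv.Perm.sign x.1 →
      Equiv.Perm.sign y.2 = Equiv.Perm.sign x.2 → y ∈ R := by
    intro x hx y e1 e2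
    have h3 : x⁻¹ * y ∈ R := hsplit _ _
      (by rw [Equiv.Perm.mem_alternatingGroup]; simp [e1])
      (by rw [Equiv.Perm.mem_alternatingGroup]; simp [e2])
    simpa using mul_mem hx h3
  refine ⟨fun hf hs => le_antisymm (fun x hx => ⟨hf x hx, hs x hx⟩) ?_, ?_⟩
  · intro x hx
    exact hsplit _ _ hx.1 hx.2
  rintro ⟨x₀, hx₀, hodd⟩
  by_cases hs : ∀ x ∈ R, Equiv.Perm.sign x.2 = 1
  · left
    refine le_antisymm (fun x hx => ⟨trivial, hs x hx⟩) fun y hy => ?_
    rcases Int.units_eq_one_or (Equiv.Perm.sign y.1) with h | h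
    · exact hsplit _ _ h hy.2
    · exact hsign x₀ hx₀ y (h.trans hodd.symm) ((show Equiv.Perm.sign y.2 = 1 from hy.2).trans (hs x₀ hx₀).symm)
  right
  push Not at hs
  obtain ⟨x₁, hx₁, hne⟩ := hs
  have hodd₁ : Equiv.Perm.sign x₁.2 = -1 := (Int.units_eq_one_or _).resolve_left hne
  by_cases hmix : ∃ x ∈ R, Equiv.Perm.sign x.1 ≠ Equiv.Perm.sign x.2
  · left
    obtain ⟨x₂, hx₂, hne₂⟩ := hmix
    obtain ⟨⟨p, hp, hp1, hp2⟩, ⟨q, hq, hq1, hq2⟩⟩ :
        (∃ p ∈ R, Equiv.Perm.sign p.1 = -1 ∧ Equiv.Perm.sign p.2 = 1) ∧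
        (∃ q ∈ R, Equiv.Perm.sign q.1 = 1 ∧ Equiv.Perm.sign q.2 = -1) := by
      rcases Int.units_eq_one_or (Equiv.Perm.sign x₂.1) with ha | ha
      · have hb : Equiv.Perm.sign x₂.2 = -1 :=
          (Int.units_eq_one_or _).resolve_left fun h => hne₂ (ha.trans h.symm)
        refine ⟨?_, x₂, hx₂, ha, hb⟩
        rcases Int.units_eq_one_or (Equiv.Perm.sign x₀.2) with hc | hc
        · exact ⟨x₀, hx₀, hodd, hc⟩
        · exact ⟨_, mul_mem hx₀ hx₂, by simp [hodd, ha], by simp [hc, hb]⟩
      · have hb : Equiv.Perm.sign x₂.2 = 1 :=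
          (Int.units_eq_one_or _).resolve_right fun h => hne₂ (ha.trans h.symm)
        refine ⟨⟨x₂, hx₂, ha, hb⟩, ?_⟩
        rcases Int.units_eq_one_or (Equiv.Perm.sign x₁.1) with hc | hc
        · exact ⟨x₁, hx₁, hc, hodd₁⟩
        · exact ⟨_, mul_mem hx₁ hx₂, by simp [hc, ha], by simp [hodd₁, hb]⟩
    refine eq_top_iff.mpr fun y _ => ?_
    rcases Int.units_eq_one_or (Equiv.Perm.sign y.1) with hy1 | hy1 <;>
      rcases Int.units_eq_one_or (Equiv.Perm.sign y.2) with hy2 | hy2
    · exact hsplit _ _ hy1 hy2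
    · exact hsign q hq y (hy1.trans hq1.symm) (hy2.trans hq2.symm)
    · exact hsign p hp y (hy1.trans hp1.symm) (hy2.trans hp2.symm)
    · exact hsign _ (mul_mem hp hq) y (by simp [hy1, hp1, hq1]) (by simp [hy2, hp2, hq2])
  · right
    push Not at hmix
    refine le_antisymm (fun x hx => ?_) fun y hy => ?_
    · rw [MonoidHom.mem_ker]
      simp [hmix x hx]
    · rw [MonoidHom.mem_ker] at hy
      simp only [MonoidHom.mul_apply, MonoidHom.comp_apply, MonoidHom.coe_fst, MonoidHom.coe_snd] at hy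
      have heq : Equiv.Perm.sign y.1 = Equiv.Perm.sign y.2 := by
        rw [mul_eq_one_iff_eq_inv.mp hy, Int.units_inv_eq_self]
      rcases Int.units_eq_one_or (Equiv.Perm.sign y.1) with hy1 | hy1
      · exact hsplit _ _ hy1 (heq.symm.trans hy1)
      · exact hsign x₀ hx₀ y (hy1.trans hodd.symm) (by rw [← heq, hy1, ← hmix x₀ hx₀, hodd])

variable [Finite G] [Finite Ω]

theorem fitting_eq_bot_of_alt_le {α : Type*} [Fintype α] [DecidableEq α] (h5 : 5 ≤ Nat.card α)
    {X : Subgroup (Equiv.Perm α)} (hX : alternatingGroup α ≤ X) : fittingSubgroup ↥X = ⊥ := by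
  haveI := fittingSubgroup_normal' ↥X
  refine (Subgroup.map_eq_bot_iff_of_injective _ X.subtype_injective).mp ?_
  refine (eq_bot_or_alt_le h5 hX ?_).resolve_right fun h => not_isSolvable_of_alt_le h5 h ?_
  · exact Subgroup.le_normalizer.trans (normalizer_le_normalizer_map_subtype X _)
  · haveI : Group.IsNilpotent ↥((fittingSubgroup ↥X).map X.subtype) :=
      isNilpotent_map X.subtype (isNilpotent_fittingSubgroup ↥X)
    infer_instance

/-- The induced two-point stabiliser has trivial Fitting subgroup. -/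
theorem fitting_image_eq_bot (a b : Ω) (d : ℕ) (hd : Nat.card (orbit (stabilizer G a) b) = d)
    (h6 : 6 ≤ d)
    (halt : (toPermHom (stabilizer G a) (orbit (stabilizer G a) b)).range.index ≤ 2) :
    fittingSubgroup ↥(((stabilizer G b).subgroupOf (stabilizer G a)).map
      (toPermHom (stabilizer G a) (orbit (stabilizer G a) b))) = ⊥ := by
  classical
  set φ := toPermHom (stabilizer G a) (orbit (stabilizer G a) b) with hφ
  set g := φ.comp (Subgroup.inclusion (inf_le_left : stabilizer G a ⊓ stabilizer G b ≤ stabilizer G a))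
    with hg
  have hgr : g.range = ((stabilizer G b).subgroupOf (stabilizer G a)).map φ := by
    rw [hg, MonoidHom.range_comp, Subgroup.inclusion_range, Subgroup.inf_subgroupOf_left]
  have hgk : g.ker = (restHom G a b).ker := by
    rw [ker_restHom, hg, ← MonoidHom.comap_ker, hφ, ker_toPermHom_orbit]
    rfl
  haveI : Fintype ↥(orbit (stabilizer G a) b \ {b} : Set Ω) := Fintype.ofFinite _
  have h5 : 5 ≤ Nat.card ↥(orbit (stabilizer G a) b \ {b} : Set Ω) := by
    rw [card_rest_set a b d hd]; omega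
  have h0 := fitting_eq_bot_of_alt_le h5 (Equiv.Perm.alternatingGroup_le_of_index_le_two
    ((index_restHom a b d hd).trans_le halt))
  rw [← hgr, ← map_fittingSubgroup_mulEquiv ((QuotientGroup.quotientKerEquivRange (restHom G a b)).symm.trans
    ((QuotientGroup.quotientMulEquivOfEq hgk.symm).trans (QuotientGroup.quotientKerEquivRange g))),
    h0, Subgroup.map_bot]

theorem cA2_eq_bot_of_fitting [FaithfulSMul G Ω] [IsPreprimitive G Ω] (a b : Ω)
    (h2 : 2 ≤ Nat.card (orbit (stabilizer G a) b))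
    (hI : fittingSubgroup ↥(stabilizer G a ⊓ stabilizer G b) = ⊥) :
    cA2 (stabilizer G a) (stabilizer G b) = ⊥ ∨ cA2 (stabilizer G b) (stabilizer G a) = ⊥ := by
  by_contra hc
  push Not at hc
  obtain ⟨r, hr, -, -, -, -, hA, -⟩ := (hyp_stabilizer h2).exists_prime hc.1 hc.2
  haveI := Fact.mk hr
  have hle : cA2 (stabilizer G a) (stabilizer G b) ≤ stabilizer G a ⊓ stabilizer G b :=
    (cA2_le_cA _ _).trans (nCore_le _ _)
  have h1 := (Y_le_Y_of_isSubnormal (some ⟨r, hr⟩) hle (inf_normal_cA2 _ _).isSubnormal).trans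
    (CfsgLib.Components.coreOf_le_fitOf (q := r) _)
  rw [CfsgLib.Components.fitOf, hI, Subgroup.map_bot, le_bot_iff] at h1
  exact hA h1

/-- The structure of the point stabiliser. -/
theorem structure_of_alt [FaithfulSMul G Ω] [IsPreprimitive G Ω] (a b : Ω) (d : ℕ)
    (hd : Nat.card (orbit (stabilizer G a) b) = d) (h6 : 6 ≤ d)
    (halt : (toPermHom (stabilizer G a) (orbit (stabilizer G a) b)).range.index ≤ 2)
    (hunf : ¬ Function.Injective (toPermHom (stabilizer G a) (orbit (stabilizer G a) b))) :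
    ((toPermHom (stabilizer G a) (orbit (stabilizer G a) b)).range.index = 2 ∧
      Nonempty (stabilizer G a ≃* alternatingGroup (Fin d) × alternatingGroup (Fin (d - 1)))) ∨
    ((toPermHom (stabilizer G a) (orbit (stabilizer G a) b)).range = ⊤ ∧
      (Nonempty (stabilizer G a ≃* Equiv.Perm (Fin d) × Equiv.Perm (Fin (d - 1))) ∨
       Nonempty (stabilizer G a ≃* Equiv.Perm (Fin d) × alternatingGroup (Fin (d - 1))) ∨
       Nonempty (stabilizer G a ≃* ((Equiv.Perm.sign.comp (MonoidHom.fst (Equiv.Perm (Fin d)) (Equiv.Perm (Fin (d - 1))))) *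
         (Equiv.Perm.sign.comp (MonoidHom.snd (Equiv.Perm (Fin d)) (Equiv.Perm (Fin (d - 1)))))).ker))) := by
  classical
  have hyp := hyp_stabilizer (G := G) (a := a) (b := b) (by omega)
  have hd' : Nat.card (orbit (stabilizer G b) a) = d := by
    rw [card_orbit_stabilizer_symm b a, hd]
  have hKbot : orbitKer G a b ≠ ⊥ := by
    intro h0
    refine hunf ((MonoidHom.ker_eq_bot_iff _).mp ?_)
    rw [ker_toPermHom_orbit, h0, Subgroup.bot_subgroupOf]
  have hI := fitting_inf_eq_bot (G := G) (a := a) (b := b) (by omega)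
    (fitting_image_eq_bot a b d hd h6 halt)
  have h0 := cA2_eq_bot_of_fitting (G := G) a b (by omega) hI
  obtain ⟨e₀⟩ := hyp.iso
  have halt' := index_paired_le_two a b d hd (by omega) halt e₀.symm h0
  have hLK : ¬ orbitKer G b a ≤ orbitKer G a b := not_orbitKer_le a b d hd h6 halt halt' hKbot
  have hKL : ¬ orbitKer G a b ≤ orbitKer G b a :=
    not_orbitKer_le b a d hd' h6 halt' halt fun h0 => hLK (h0 ▸ bot_le)
  have hD : orbitKer G a b ⊓ orbitKer G b a = ⊥ := by
    rcases h0 with h0 | h0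
    · exact inf_orbitKer_eq_bot a b d hd h6 halt halt' hI h0 hKL hLK
    · rw [inf_comm] at hI ⊢
      exact inf_orbitKer_eq_bot b a d hd' h6 halt' halt hI h0 hLK hKL
  set M := stabilizer G a with hM
  set N := stabilizer G b with hN
  set K := orbitKer G a b with hK
  set L := orbitKer G b a with hL
  set φ := toPermHom M (orbit M b) with hφ
  set φ' := toPermHom N (orbit N a) with hφ'
  -- move both actions to standard sets
  let e₁ := (Finite.equivFinOfCardEq hd).permCongrHom
  let e₂ := (Finite.equivFinOfCardEq (card_rest_set b a d hd')).permCongrHom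
  set φ₁ := e₁.toMonoidHom.comp φ with hφ₁
  set ψ := e₂.toMonoidHom.comp (restHom G b a) with hψ
  have hi₁ : φ₁.range.index = φ.range.index := by
    rw [hφ₁, MonoidHom.range_comp]
    exact Subgroup.index_map_equiv φ.range e₁
  have hiψ : ψ.range.index = φ'.range.index := by
    rw [hψ, MonoidHom.range_comp]
    exact (Subgroup.index_map_equiv (restHom G b a).range e₂).trans (index_restHom b a d hd')
  have hk₁ : φ₁.ker = K.subgroupOf M := by
    rw [← ker_toPermHom_orbit a b]
    ext x
    rw [MonoidHom.mem_ker, MonoidHom.mem_ker]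
    exact e₁.map_eq_one_iff
  have hkψ : ψ.ker = L.subgroupOf (N ⊓ M) := by
    rw [← ker_restHom b a]
    ext x
    simp [hψ]
  have hφ₁alt := Equiv.Perm.alternatingGroup_le_of_index_le_two (hi₁.trans_le halt)
  have hψalt := Equiv.Perm.alternatingGroup_le_of_index_le_two (hiψ.trans_le halt')
  have h5 : 5 ≤ Nat.card (Fin d) := by simp; omega
  have h5' : 5 ≤ Nat.card (Fin (d - 1)) := by simp; omega
  have hKM : K ≤ M := inf_le_left
  have hKI : K ≤ N ⊓ M := le_inf (orbitKer_le_right a b) hKM
  have hLI : L ≤ N ⊓ M := orbitKer_le_inf b a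
  have hLM : L ≤ M := hLI.trans inf_le_right
  -- `ψ` maps `K` onto a group containing the alternating group
  have hψK : alternatingGroup (Fin (d - 1)) ≤ (K.subgroupOf (N ⊓ M)).map ψ := by
    refine (eq_bot_or_alt_le h5' hψalt ?_).resolve_left fun h => hKL ?_
    · haveI : (K.subgroupOf (N ⊓ M)).Normal :=
        Subgroup.normal_subgroupOf_of_le_normalizer (inf_le_right.trans (le_normalizer_orbitKer a b))
      rw [MonoidHom.range_eq_map]
      exact (Subgroup.map_mono Subgroup.le_normalizer_of_normal).trans (Subgroup.le_normalizer_map ψ)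
    · rw [Subgroup.map_eq_bot_iff, hkψ] at h
      exact fun x hx => Subgroup.mem_subgroupOf.mp
        (h (show (⟨x, hKI hx⟩ : ↥(N ⊓ M)) ∈ K.subgroupOf (N ⊓ M) from hx))
  set Z := M ⊓ Subgroup.centralizer (K : Set G) with hZ
  have hMZ : M ≤ Subgroup.normalizer (Z : Set G) :=
    (le_inf Subgroup.le_normalizer ((le_normalizer_orbitKer a b).trans
      (CfsgLib.PLocal.normalizer_le_centralizer_normalizer _))).trans
      Subgroup.inf_normalizer_le_normalizer_inf
  haveI hZn : (Z.subgroupOf M).Normal := Subgroup.normal_subgroupOf_of_le_normalizer hMZ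
  have hLZ : L ≤ Z := le_inf hLM (le_centralizer_of_inf_eq_bot
    (hLM.trans (le_normalizer_orbitKer a b))
    ((hKI.trans inf_le_left).trans (le_normalizer_orbitKer b a)) (by rw [inf_comm]; exact hD))
  have hφZ : alternatingGroup (Fin d) ≤ (Z.subgroupOf M).map φ₁ := by
    refine (eq_bot_or_alt_le h5 hφ₁alt ?_).resolve_left fun h => hLK ?_
    · rw [MonoidHom.range_eq_map]
      exact (Subgroup.map_mono Subgroup.le_normalizer_of_normal).trans (Subgroup.le_normalizer_map φ₁)
    · rw [Subgroup.map_eq_bot_iff, hk₁] at h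
      exact fun x hx => Subgroup.mem_subgroupOf.mp
        (h (show (⟨x, hLM hx⟩ : M) ∈ Z.subgroupOf M from hLZ hx))
  set ρ := (QuotientGroup.mk' (Z.subgroupOf M)).comp
    (Subgroup.inclusion (inf_le_right : N ⊓ M ≤ M)) with hρ
  have hρs : Function.Surjective ρ := by
    intro q
    obtain ⟨m, rfl⟩ := QuotientGroup.mk'_surjective _ q
    haveI := alternatingGroup.isPretransitive_of_three_le_card (α := Fin d) (by simp; omega)
    let i₀ : orbit (stabilizer G a) b := ⟨b, mem_orbit_self b⟩
    obtain ⟨σ, hσ⟩ := MulAction.exists_smul_eq (alternatingGroup (Fin d))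
      (Finite.equivFinOfCardEq hd i₀) (φ₁ m (Finite.equivFinOfCardEq hd i₀))
    obtain ⟨z, hz, hze⟩ := hφZ σ.2
    have h1 : φ₁ z (Finite.equivFinOfCardEq hd i₀) = φ₁ m (Finite.equivFinOfCardEq hd i₀) := by
      rw [hze]; exact hσ
    have h2 : (z : G) • b = (m : G) • b := by
      have h3 : φ z i₀ = φ m i₀ := by
        simpa [hφ₁, e₁, Equiv.permCongrHom] using h1
      exact congrArg Subtype.val h3
    have h4 : ((z⁻¹ * m : M) : G) ∈ N ⊓ M := by
      refine ⟨?_, (z⁻¹ * m : M).2⟩
      show ((z⁻¹ * m : M) : G) • b = b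
      rw [Subgroup.coe_mul, Subgroup.coe_inv, mul_smul, ← h2, inv_smul_smul]
    refine ⟨⟨_, h4⟩, ?_⟩
    show QuotientGroup.mk' (Z.subgroupOf M) (z⁻¹ * m) = QuotientGroup.mk' (Z.subgroupOf M) m
    rw [map_mul, map_inv, show QuotientGroup.mk' (Z.subgroupOf M) z = 1 from
      (QuotientGroup.eq_one_iff z).mpr hz, inv_one, one_mul]
  have hker : ρ.ker ≤ ψ.ker := by
    intro x hx
    rw [MonoidHom.mem_ker] at hx ⊢
    have hxZ : (x : G) ∈ Z := Subgroup.mem_subgroupOf.mp
      ((QuotientGroup.eq_one_iff (Subgroup.inclusion (inf_le_right : N ⊓ M ≤ M) x)).mp hx)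
    have h1 : ψ x ∈ Subgroup.centralizer (alternatingGroup (Fin (d - 1)) : Set (Equiv.Perm (Fin (d - 1)))) := by
      refine Subgroup.mem_centralizer_iff.mpr fun τ hτ => ?_
      obtain ⟨k, hk, rfl⟩ := hψK hτ
      rw [← map_mul, ← map_mul]
      exact congrArg ψ (Subtype.ext (Subgroup.mem_centralizer_iff.mp hxZ.2 k hk))
    rw [centralizer_alt h5'] at h1
    exact Subgroup.mem_bot.mp h1
  set Ψ := (MonoidHom.liftOfSurjective ρ hρs ⟨ψ, hker⟩).comp (QuotientGroup.mk' (Z.subgroupOf M))
    with hΨ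
  have hΨI : ∀ x : ↥(N ⊓ M), Ψ (Subgroup.inclusion inf_le_right x) = ψ x := fun x =>
    MonoidHom.liftOfRightInverse_comp_apply ρ _ (Function.rightInverse_surjInv hρs) ⟨ψ, hker⟩ x
  have hΨZ : ∀ z : M, z ∈ Z.subgroupOf M → Ψ z = 1 := fun z hz => by
    rw [hΨ, MonoidHom.comp_apply, show QuotientGroup.mk' (Z.subgroupOf M) z = 1 from
      (QuotientGroup.eq_one_iff z).mpr hz, map_one]
  set Θ := φ₁.prod Ψ with hΘ
  have hΘinj : Function.Injective Θ := by
    refine (MonoidHom.ker_eq_bot_iff Θ).mp ((Subgroup.eq_bot_iff_forall _).mpr fun x hx => ?_)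
    rw [MonoidHom.mem_ker, hΘ, MonoidHom.prod_apply, Prod.mk_eq_one] at hx
    have hxK : (x : G) ∈ K := by
      have : x ∈ φ₁.ker := hx.1
      rw [hk₁] at this
      exact this
    have h1 : ψ ⟨x, hKI hxK⟩ = 1 := by
      rw [← hΨI]
      exact hx.2
    rw [← MonoidHom.mem_ker, hkψ] at h1
    have h2 : (x : G) ∈ K ⊓ L := ⟨hxK, h1⟩
    rw [hD] at h2
    exact Subtype.ext (Subgroup.mem_bot.mp h2)
  let eR : M ≃* Θ.range := MonoidHom.ofInjective hΘinj
  obtain ⟨hcaseA, hcaseS⟩ := subdirect_cases Θ.range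
    (fun σ hσ => by
      obtain ⟨z, hz, rfl⟩ := hφZ hσ
      exact ⟨z, by rw [hΘ, MonoidHom.prod_apply, hΨZ z hz]⟩)
    (fun τ hτ => by
      obtain ⟨k, hk, rfl⟩ := hψK hτ
      refine ⟨Subgroup.inclusion inf_le_right k, ?_⟩
      rw [hΘ, MonoidHom.prod_apply, hΨI]
      have : Subgroup.inclusion inf_le_right k ∈ φ₁.ker := by
        rw [hk₁]; exact hk
      rw [MonoidHom.mem_ker.mp this])
  rcases Nat.lt_or_ge φ.range.index 2 with hlt | hge
  · -- full symmetric group
    right
    have htop : φ.range = ⊤ := Subgroup.index_eq_one.mp (by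
      have := Nat.pos_of_ne_zero (Subgroup.index_ne_zero_of_finite (H := φ.range))
      omega)
    refine ⟨htop, ?_⟩
    have htop₁ : φ₁.range = ⊤ := Subgroup.index_eq_one.mp (by rw [hi₁, htop, Subgroup.index_top])
    haveI : Nontrivial (Fin d) := Fin.nontrivial_iff_two_le.mpr (by omega)
    obtain ⟨σ, hσ⟩ := Equiv.Perm.sign_surjective (α := Fin d) (-1)
    obtain ⟨m, hm⟩ := (htop₁ ▸ Subgroup.mem_top σ : σ ∈ φ₁.range)
    rcases hcaseS ⟨Θ m, ⟨m, rfl⟩, by rw [hΘ, MonoidHom.prod_apply]; simpa [hm] using hσ⟩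
      with h | h | h
    · exact Or.inr (Or.inl ⟨(eR.trans (MulEquiv.subgroupCongr h)).trans
        ((Subgroup.prodEquiv _ _).trans (Subgroup.topEquiv.prodCongr (MulEquiv.refl _)))⟩)
    · exact Or.inl ⟨(eR.trans (MulEquiv.subgroupCongr h)).trans Subgroup.topEquiv⟩
    · exact Or.inr (Or.inr ⟨eR.trans (MulEquiv.subgroupCongr h)⟩)
  · left
    have h2 : φ.range.index = 2 := le_antisymm halt hge
    refine ⟨h2, ⟨(eR.trans (MulEquiv.subgroupCongr (hcaseA ?_ ?_))).trans (Subgroup.prodEquiv _ _)⟩⟩
    · rintro _ ⟨m, rfl⟩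
      have h3 : φ₁ m ∈ alternatingGroup (Fin d) := by
        rw [← Equiv.Perm.eq_alternatingGroup_of_index_eq_two (hi₁.trans h2)]
        exact ⟨m, rfl⟩
      exact h3
    · -- the paired suborbit also carries exactly the alternating group
      have h2' : φ'.range.index = 2 := by
        refine le_antisymm halt' ?_
        by_contra hlt
        have htop : φ'.range = ⊤ := Subgroup.index_eq_one.mp (by
          have := Nat.pos_of_ne_zero (Subgroup.index_ne_zero_of_finite (H := φ'.range))
          omega)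
        set f := φ'.comp e₀.toMonoidHom with hf
        have hfr : f.range = ⊤ := by
          rw [hf, MonoidHom.range_comp, ← htop]
          simp [← MonoidHom.range_eq_map]
        have hcardK : Nat.card K ≤ (d - 1).factorial := by
          have hinj : Function.Injective (ψ.comp (Subgroup.inclusion hKI)) := by
            refine (MonoidHom.ker_eq_bot_iff _).mp ((Subgroup.eq_bot_iff_forall _).mpr fun x hx => ?_)
            rw [MonoidHom.mem_ker, MonoidHom.comp_apply, ← MonoidHom.mem_ker, hkψ] at hx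
            have h2 : (x : G) ∈ K ⊓ L := ⟨x.2, hx⟩
            rw [hD] at h2
            exact Subtype.ext (Subgroup.mem_bot.mp h2)
          refine (Nat.card_le_card_of_injective _ hinj).trans ?_
          rw [Nat.card_perm, Nat.card_fin]
        haveI : Fintype (orbit N a) := Fintype.ofFinite _
        have h5b : 5 ≤ Nat.card (orbit N a) := by omega
        have hfact : (d - 1).factorial * d = d.factorial := by
          rw [mul_comm]; exact Nat.mul_factorial_pred (by omega)
        have hfp := Nat.factorial_pos (d - 1)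
        rcases eq_bot_or_alt_le h5b (J := ⊤) (X := φ.ker.map f) le_top (by
            rw [← hfr, MonoidHom.range_eq_map]
            exact (Subgroup.map_mono Subgroup.le_normalizer_of_normal).trans
              (Subgroup.le_normalizer_map f)) with h | h
        · have h1 : Nat.card f.range ∣ Nat.card φ.range := by
            rw [← Subgroup.index_ker, ← Subgroup.index_ker]
            exact Subgroup.index_dvd_of_le ((Subgroup.map_eq_bot_iff _).mp h)
          rw [hfr, Subgroup.card_top, Nat.card_perm, hd'] at h1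
          have h3 := Subgroup.card_mul_index φ.range
          rw [h2, Nat.card_perm, hd] at h3
          have := Nat.le_of_dvd Nat.card_pos h1
          have := Nat.card_pos (α := φ.range)
          omega
        · have h1 := (Subgroup.card_le_of_le h).trans
            (Nat.le_of_dvd Nat.card_pos (card_map_dvd f φ.ker))
          rw [hφ, ker_toPermHom_orbit, card_subgroupOf inf_le_left] at h1
          have h3 := two_mul_card_alt (α := orbit N a) (by omega)
          rw [hd'] at h3
          nlinarith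
      rintro _ ⟨m, rfl⟩
      obtain ⟨x, hx⟩ := hρs (QuotientGroup.mk' (Z.subgroupOf M) m)
      have h3 : Ψ m = ψ x := by
        rw [← hΨI]
        exact congrArg (MonoidHom.liftOfSurjective ρ hρs ⟨ψ, hker⟩) hx.symm
      have h4 : Ψ m ∈ alternatingGroup (Fin (d - 1)) := by
        rw [h3, ← Equiv.Perm.eq_alternatingGroup_of_index_eq_two (hiψ.trans h2')]
        exact ⟨x, rfl⟩
      exact h4

end CfsgLib.Recog.AltSub
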